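import Groth.Agent.Lib.Stein6.Fibres
import Groth.Agent.Lib.HensProper6.General
import Mathlib

/-! # Geometric connectedness of proper schemes over a field through global functions -/

set_option autoImplicit false
universe u
set_option backward.isDefEq.respectTransparency.types false

open CategoryTheory CategoryTheory.Limits AlgebraicGeometry

namespace Groth.Agent.Stein6

/-- A geometrically connected proper morphism followed by a universal homeomorphism is geometrically
connected. -/
theorem geometricallyConnected_comp_univHomeo {X Y Z : Scheme.{u}} (f : X ⟶ Y) [GeometricallyConnected f]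
    (g : Y ⟶ Z) (hg : FlatMor.IsUnivHomeo g) : GeometricallyConnected (f ≫ g) := by
  refine ⟨geometrically_iff_of_isClosedUnderIsomorphisms.mpr fun K _ y => ?_⟩
  rw [← (pullbackRightPullbackFstIso g y f).hom.homeomorph.connectedSpace_iff]
  have hh : IsHomeomorph (pullback.snd g y) := UH.isHomeomorph_of_isUnivHomeo (UH.isUnivHomeo_snd g y hg)
  haveI : Unique ↥(Spec (CommRingCat.of K)) := inferInstanceAs (Unique (PrimeSpectrum K))
  haveI : Subsingleton ↥(pullback g y) := hh.injective.subsingleton
  haveI : Nonempty ↥(pullback g y) := ⟨(hh.surjective default).choose⟩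
  exact GeometricallyConnected.connectedSpace_of_subsingleton (pullback.snd f (pullback.fst g y))

theorem geometricallyConnected_iff_fromNormalization {X S : Scheme.{u}} (f : X ⟶ S) [IsProper f] :
    GeometricallyConnected f ↔ UniversallyInjective f.fromNormalization ∧ Surjective f.fromNormalization := by
  constructor
  · intro hf
    haveI : GeometricallyConnected (f.toNormalization ≫ f.fromNormalization) := by
      rw [f.toNormalization_fromNormalization]; infer_instance
    haveI : Surjective (f.toNormalization ≫ f.fromNormalization) := inferInstance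
    exact ⟨universallyInjective_of_geometricallyConnected f.toNormalization f.fromNormalization,
      Surjective.of_comp f.toNormalization f.fromNormalization⟩
  · rintro ⟨_, _⟩
    have := geometricallyConnected_comp_univHomeo f.toNormalization f.fromNormalization (UH.isUnivHomeo_of _)
    rwa [f.toNormalization_fromNormalization] at this

theorem rad_conditions_iff {k : Type u} [Field k] {B : Type u} [CommRing B] (φ : k →+* B) :
    (UniversallyInjective (Spec.map (CommRingCat.ofHom φ)) ∧ Surjective (Spec.map (CommRingCat.ofHom φ))) ↔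
      (IsLocalRing B ∧ ringKrullDim B = 0 ∧
        ∀ a : B, ∃ (n : ℕ) (c : k), IsNilpotent (a ^ (ringExpChar k ^ n) - φ c)) := by
  constructor
  · rintro ⟨hi, hs⟩
    obtain ⟨h₁, h₂⟩ := UH.rad_inj2_of_universallyInjective φ hi
    obtain ⟨q, hq, -⟩ := (UH.surjective_iff φ).mp hs ⊥ Ideal.isPrime_bot
    have huniq : ∀ q' : Ideal B, q'.IsPrime → q' = q := fun q' hq' => h₁ q' q hq' hq (by
      rw [(IsSimpleOrder.eq_bot_or_eq_top (q'.comap φ)).resolve_right (Ideal.IsPrime.comap φ).ne_top,
        (IsSimpleOrder.eq_bot_or_eq_top (q.comap φ)).resolve_right (Ideal.IsPrime.comap φ).ne_top])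
    have hnil : ∀ b ∈ q, IsNilpotent b := fun b hb => by
      rw [← mem_nilradical, nilradical_eq_sInf, Submodule.mem_sInf]
      exact fun q' hq' => (huniq q' hq') ▸ hb
    haveI : Nontrivial B := ⟨⟨0, 1, fun h => hq.ne_top (Ideal.eq_top_iff_one _ |>.mpr (h ▸ q.zero_mem))⟩⟩
    haveI : Ring.KrullDimLE 0 B := Ring.krullDimLE_zero_iff.mpr fun I hI => by
      obtain ⟨m, hm, hle⟩ := Ideal.exists_le_maximal I hI.ne_top
      rw [huniq I hI, ← huniq m hm.isPrime]
      exact hm
    have hqm : q.IsMaximal := Ring.krullDimLE_zero_iff.mp inferInstance q hq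
    refine ⟨IsLocalRing.of_unique_max_ideal ⟨q, hqm, fun m hm => huniq m hm.isPrime⟩,
      ringKrullDimZero_iff_ringKrullDim_eq_zero.mp inferInstance, fun b => ?_⟩
    have key : ∀ b : B, UH.ResAt φ q b → ∃ c : k, IsNilpotent (b - φ c) := by
      rintro b ⟨a, s, hs, hb⟩
      have hs0 : s ≠ 0 := fun h => hs (by rw [h, map_zero]; exact q.zero_mem)
      refine ⟨a / s, hnil _ ?_⟩
      have : φ s⁻¹ * (φ s * b - φ a) ∈ q := q.mul_mem_left _ hb
      rwa [mul_sub, ← mul_assoc, ← map_mul, inv_mul_cancel₀ hs0, map_one, one_mul, ← map_mul,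
        mul_comm, ← div_eq_mul_inv] at this
    rcases h₂ q hq b with hb | ⟨p, hp, hpq, n, hb⟩
    · obtain ⟨c, hc⟩ := key b hb
      exact ⟨0, c, by rwa [pow_zero, pow_one]⟩
    · have hp0 : (p : k) = 0 := by
        by_contra hne
        refine hq.ne_top (Ideal.eq_top_of_isUnit_mem _ hpq ?_)
        rw [← map_natCast φ p]
        exact (isUnit_iff_ne_zero.mpr hne).map φ
      haveI : CharP k p := CharP.ringChar_of_prime_eq_zero hp hp0 ▸ ringChar.charP k
      haveI : ExpChar k p := ExpChar.prime hp
      obtain ⟨c, hc⟩ := key _ hb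
      exact ⟨n, c, by rwa [ringExpChar.eq k p]⟩
  · rintro ⟨hloc, hdim, hrad⟩
    haveI : Ring.KrullDimLE 0 B := ringKrullDimZero_iff_ringKrullDim_eq_zero.mpr hdim
    have hmax : ∀ q : Ideal B, q.IsPrime → q = IsLocalRing.maximalIdeal B := fun q hq =>
      IsLocalRing.eq_maximalIdeal (Ring.krullDimLE_zero_iff.mp inferInstance q hq)
    have h₁ : UH.Inj2 φ := fun q q' hq hq' _ => (hmax q hq).trans (hmax q' hq').symm
    have h₂ : UH.Rad φ := by
      intro q hq b
      obtain ⟨n, c, hnc⟩ := hrad b
      have hres : UH.ResAt φ q (b ^ ringExpChar k ^ n) :=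
        ⟨c, 1, by rw [map_one]; exact fun h => hq.ne_top ((Ideal.eq_top_iff_one q).mpr h), by
          rw [map_one, one_mul]; exact nilpotent_iff_mem_prime.mp hnc q hq⟩
      obtain ⟨p, hpk⟩ := ExpChar.exists k
      haveI := hpk
      rw [ringExpChar.eq k p] at hres
      rcases hpk with _ | ⟨hp⟩
      · exact Or.inl (by rwa [one_pow, pow_one] at hres)
      · exact Or.inr ⟨p, hp, by rw [← map_natCast φ p, CharP.cast_eq_zero, map_zero]; exact q.zero_mem, n, hres⟩
    refine ⟨UH.universallyInjective_of_inj2_rad φ h₁ h₂, (UH.surjective_iff φ).mpr fun p hp => ?_⟩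
    refine ⟨IsLocalRing.maximalIdeal B, inferInstance, ?_⟩
    haveI := hp
    rw [(IsSimpleOrder.eq_bot_or_eq_top p).resolve_right hp.ne_top,
      (IsSimpleOrder.eq_bot_or_eq_top ((IsLocalRing.maximalIdeal B).comap φ)).resolve_right
        (Ideal.IsPrime.comap φ).ne_top]

theorem geometricallyConnected_iff_globalSections {k : Type u} [Field k] {X : Scheme.{u}}
    (f : X ⟶ Spec (CommRingCat.of k)) [IsProper f] :
    GeometricallyConnected f ↔
      (IsLocalRing Γ(X, ⊤) ∧ ringKrullDim Γ(X, ⊤) = 0 ∧
        ∀ a : Γ(X, ⊤), ∃ (n : ℕ) (c : k),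
          IsNilpotent (a ^ (ringExpChar k ^ n) - f.appTop.hom ((Scheme.ΓSpecIso (CommRingCat.of k)).inv.hom c))) := by
  let h := f.fromNormalization
  let t := f.toNormalization
  haveI : IsAffine f.normalization := isAffine_of_isAffineHom h
  haveI : IsIso t.appTop := S1340.result f ⊤
  let φ : CommRingCat.of k ⟶ Γ(X, ⊤) := (Scheme.ΓSpecIso (CommRingCat.of k)).inv ≫ f.appTop
  let ψ : CommRingCat.of k ⟶ Γ(f.normalization, ⊤) := (Scheme.ΓSpecIso (CommRingCat.of k)).inv ≫ h.appTop
  have hψ : f.normalization.toSpecΓ ≫ Spec.map ψ = h := HensProper6.toSpecΓ_comp_toGlobal h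
  have hφ : φ = ψ ≫ t.appTop := by
    simp only [φ, ψ, Category.assoc, t, h]
    rw [← Scheme.Hom.comp_appTop, f.toNormalization_fromNormalization]
  have e : h = (f.normalization.toSpecΓ ≫ inv (Spec.map t.appTop)) ≫ Spec.map φ := by
    rw [hφ, Spec.map_comp, Category.assoc, IsIso.inv_hom_id_assoc, hψ]
  rw [geometricallyConnected_iff_fromNormalization, show f.fromNormalization = h from rfl, e,
    MorphismProperty.cancel_left_of_respectsIso @UniversallyInjective,
    MorphismProperty.cancel_left_of_respectsIso @Surjective]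
  exact rad_conditions_iff φ.hom

end Groth.Agent.Stein6
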