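import Groth.Agent.Lib.Stein6.UnibranchFibres
import Groth.Agent.Lib.Stein6.OverField
import Groth.Agent.Lib.UnivHomeo.Main
import Mathlib

/-! # Geometrically connected fibres over a geometrically unibranch base -/

set_option autoImplicit false
universe u
set_option backward.isDefEq.respectTransparency.types false

open CategoryTheory CategoryTheory.Limits AlgebraicGeometry

namespace Groth.Agent.Stein6

theorem isIntegral_normalization {X S : Scheme.{u}} [IsIntegral X] (f : X ⟶ S) [IsProper f] :
    IsIntegral f.normalization := by
  haveI : IsReduced f.normalization := ⟨fun U =>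
    isReduced_of_injective (f.toNormalization.app U).hom (bijective_toNormalization_app f U).1⟩
  haveI : IrreducibleSpace f.normalization := GeomIrr.irreducibleSpace_of_surjective f.toNormalization
  exact isIntegral_of_irreducibleSpace_of_isReduced _

theorem genericPoint_specializes {Y S : Scheme.{u}} [IsIntegral Y] [IsIntegral S] (g : Y ⟶ S) [IsDominant g] :
    g.base (genericPoint Y) ⤳ genericPoint S := by
  rw [specializes_iff_mem_closure]
  have hsub : Set.range g ⊆ closure {g.base (genericPoint Y)} := by
    rintro _ ⟨x, rfl⟩
    exact specializes_iff_mem_closure.mp (((genericPoint_spec Y).specializes trivial).map g.continuous)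
  exact (g.denseRange.closure_range ▸ closure_minimal hsub isClosed_closure) (Set.mem_univ _)

theorem fieldPoint_comp {Y S : Scheme.{u}} (g : Y ⟶ S) (s : S) (y : Y)
    (hd : g y ⤳ s) [IsIso (S.residue s)] {Ω : CommRingCat.{u}} (ρ : Y.presheaf.stalk y ⟶ Ω) :
    (Spec.map ρ ≫ Y.fromSpecStalk y) ≫ g =
      Spec.map (inv (S.residue s) ≫ (S.presheaf.stalkSpecializes hd ≫ g.stalkMap y) ≫ ρ) ≫
        S.fromSpecResidueField s := by
  rw [Scheme.fromSpecResidueField, ← Spec.map_comp_assoc, IsIso.hom_inv_id_assoc, Category.assoc,
    ← Scheme.SpecMap_stalkMap_fromSpecStalk]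
  simp only [Spec.map_comp, Category.assoc]
  rw [Scheme.SpecMap_stalkSpecializes_fromSpecStalk hd]

section

variable {X S : Scheme.{u}} [IsIntegral S] (f : X ⟶ S) [IsProper f] [IsIntegral f.normalization]
  (hη : GeometricallyConnected (f.fiberToSpecResidueField (genericPoint S)))
  (hd : f.fromNormalization.base (genericPoint f.normalization) ⤳ genericPoint S)

include hη in
theorem ringHom_eq (Ω : Type u) [Field Ω] (σ τ : f.normalization.functionField →+* Ω)
    (h : σ.comp (CohIII.stalkToFunctionField f.fromNormalization (genericPoint S) hd) =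
      τ.comp (CohIII.stalkToFunctionField f.fromNormalization (genericPoint S) hd)) : σ = τ := by
  let g := f.fromNormalization
  let s := genericPoint S
  haveI : Surjective (CohIII.fiberMapOver f.toNormalization f g f.toNormalization_fromNormalization s) :=
    ⟨surjective_fiberMapOver f f.toNormalization g f.toNormalization_fromNormalization s⟩
  have he : CohIII.fiberMapOver f.toNormalization f g f.toNormalization_fromNormalization s ≫ g.fiberToSpecResidueField s =
      f.fiberToSpecResidueField s := (pullback.lift_snd _ _ _).trans (Category.comp_id _)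
  haveI : GeometricallyConnected
      (CohIII.fiberMapOver f.toNormalization f g f.toNormalization_fromNormalization s ≫ g.fiberToSpecResidueField s) := by
    rw [he]; exact hη
  haveI : IsIntegralHom (g.fiberToSpecResidueField s) := inferInstanceAs (IsIntegralHom (pullback.snd _ _))
  have hui := universallyInjective_of_geometricallyConnected
    (CohIII.fiberMapOver f.toNormalization f g f.toNormalization_fromNormalization s) (g.fiberToSpecResidueField s)
  have hinj : Function.Injective (fun z : Spec (CommRingCat.of Ω) ⟶ g.fiber s => z ≫ g.fiberToSpecResidueField s) :=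
    by
      have hui' := hui
      rw [(tfae_universallyInjective (g.fiberToSpecResidueField s)).out 0 1 (a := UniversallyInjective _)] at hui'
      exact hui' Ω
  haveI : IsIso (S.residue s) := by
    rw [ConcreteCategory.isIso_iff_bijective]
    refine ⟨?_, Ideal.Quotient.mk_surjective⟩
    letI : Field (S.presheaf.stalk s) := inferInstanceAs (Field S.functionField)
    exact (S.residue s).hom.injective
  let a : Spec (CommRingCat.of Ω) ⟶ g.fiber s :=
    pullback.lift _ _ (fieldPoint_comp g s (genericPoint f.normalization) hd (CommRingCat.ofHom σ))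
  let b : Spec (CommRingCat.of Ω) ⟶ g.fiber s :=
    pullback.lift _ _ (fieldPoint_comp g s (genericPoint f.normalization) hd (CommRingCat.ofHom τ))
  have hab : a ≫ g.fiberToSpecResidueField s = b ≫ g.fiberToSpecResidueField s := by
    refine (pullback.lift_snd _ _ _).trans (Eq.trans ?_ (pullback.lift_snd _ _ _).symm)
    exact congrArg (fun z => Spec.map (inv (S.residue s) ≫ z)) (CommRingCat.hom_ext h)
  have h2 : (Spec.map (CommRingCat.ofHom σ) ≫ f.normalization.fromSpecStalk (genericPoint f.normalization)) =
      Spec.map (CommRingCat.ofHom τ) ≫ f.normalization.fromSpecStalk (genericPoint f.normalization) :=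
    (pullback.lift_fst _ _ (fieldPoint_comp g s (genericPoint f.normalization) hd (CommRingCat.ofHom σ))).symm.trans
      ((congrArg (fun z : Spec (CommRingCat.of Ω) ⟶ g.fiber s => z ≫ g.fiberι s) (hinj hab)).trans
        (pullback.lift_fst _ _ (fieldPoint_comp g s (genericPoint f.normalization) hd (CommRingCat.ofHom τ))))
  exact congr($(Spec.map_injective ((cancel_mono _).mp h2)).hom)

include hη in
theorem isPurelyInseparable_functionField :
    letI := (CohIII.stalkToFunctionField f.fromNormalization (genericPoint S) hd).toAlgebra
      (R := S.functionField) (S := f.normalization.functionField)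
    IsPurelyInseparable S.functionField f.normalization.functionField := by
  letI : Algebra S.functionField f.normalization.functionField :=
    (CohIII.stalkToFunctionField f.fromNormalization (genericPoint S) hd).toAlgebra
      (R := S.functionField) (S := f.normalization.functionField)
  let g := f.fromNormalization
  let η' := genericPoint f.normalization
  obtain ⟨V, hV, hsV, -⟩ := exists_isAffineOpen_mem_and_subset (X := S) (x := g η') (U := ⊤) trivial
  let W := g ⁻¹ᵁ V
  have hW : IsAffineOpen W := hV.preimage g
  haveI : Nonempty W := ⟨⟨η', hsV⟩⟩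
  haveI : IsFractionRing Γ(f.normalization, W) f.normalization.functionField :=
    functionField_isFractionRing_of_isAffineOpen _ _ hW
  haveI : Algebra.IsAlgebraic S.functionField f.normalization.functionField := by
    have hb : ∀ b : Γ(f.normalization, W), IsIntegral S.functionField (f.normalization.germToFunctionField W b) := by
      intro b
      obtain ⟨P, hP, hPb⟩ := IsIntegralHom.isIntegral_app (f := g) V hV b
      have hs : genericPoint S ∈ V := ((genericPoint_spec S).specializes trivial).mem_open V.2 hsV
      refine ⟨P.map (S.presheaf.germ V (genericPoint S) hs).hom, hP.map _, ?_⟩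
      rw [Polynomial.eval₂_map]
      have hc : (algebraMap S.functionField f.normalization.functionField).comp (S.presheaf.germ V (genericPoint S) hs).hom =
          (f.normalization.germToFunctionField W).hom.comp (g.app V).hom := by
        show (CohIII.stalkToFunctionField g (genericPoint S) hd).comp _ = _
        rw [CohIII.stalkToFunctionField, RingHom.comp_assoc, ← CommRingCat.hom_comp,
          TopCat.Presheaf.germ_stalkSpecializes, ← CommRingCat.hom_comp, Scheme.Hom.germ_stalkMap]
        rfl
      refine (congrArg (fun φ => Polynomial.eval₂ φ _ P) hc).trans ?_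
      refine (Polynomial.hom_eval₂ _ _ (f.normalization.germToFunctionField W).hom b).symm.trans ?_
      rw [hPb, map_zero]
    refine ⟨fun x => ?_⟩
    obtain ⟨a, b, -, rfl⟩ := IsFractionRing.div_surjective (A := Γ(f.normalization, W)) x
    exact ((hb a).mul (hb b).inv).isAlgebraic
  rw [isPurelyInseparable_iff_finSepDegree_eq_one, Field.finSepDegree, Nat.card_eq_one_iff_unique]
  refine ⟨⟨fun σ τ => AlgHom.coe_ringHom_injective ?_⟩, inferInstance⟩
  exact ringHom_eq f hη hd _ σ.toRingHom τ.toRingHom (σ.comp_algebraMap.trans τ.comp_algebraMap.symm)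

end

theorem inj2_rad_of_geomUnibranch {A O B K F : Type u} [CommRing A] [CommRing O] [IsDomain O] [IsLocalRing O] [CommRing B]
    [Field F] [Field K] [Algebra O F] [IsFractionRing O F] [Algebra F K] [Algebra A O] [Algebra A B] [Algebra A K]
    [Algebra O K] [Algebra B K] [IsScalarTower O F K] [IsScalarTower A O K] [IsScalarTower A B K]
    [Algebra.IsIntegral A B] [IsPurelyInseparable F K] (hO : CAlg2.IsGeomUnibranch O)
    (hinj : Function.Injective (algebraMap B K)) (p : Ideal A) [p.IsPrime] [IsLocalization.AtPrime O p]
    (q : Ideal B) [q.IsPrime] (hq : q.comap (algebraMap A B) = p) :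
    (∀ q' : Ideal B, q'.IsPrime → q'.comap (algebraMap A B) = p → q' = q) ∧
      ∀ b : B, UH.ResAt (algebraMap A B) q b ∨
        ∃ r : ℕ, r.Prime ∧ (r : B) ∈ q ∧ ∃ n : ℕ, UH.ResAt (algebraMap A B) q (b ^ r ^ n) := by
  obtain ⟨e, he⟩ := ExpChar.exists F
  haveI := he
  have hrad : ∀ x : K, IsAlgebraic F x → ∃ n : ℕ, x ^ ringExpChar F ^ n ∈ (algebraMap F K).range := fun x _ => by
    rw [ringExpChar.eq F e]
    exact IsPurelyInseparable.pow_mem F e x
  obtain ⟨hfin, hcard⟩ := card_maximalSpectrum_le (O := O) (F := F) (K := K)
    (isLocalRing_integralClosure O F hO.1) Nat.one_pos (finSepDegree_algebraicClosure_eq_one hrad)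
  haveI := hfin
  haveI : Subsingleton (MaximalSpectrum ↥(integralClosure O K)) := Finite.card_le_one_iff_subsingleton.mp hcard
  obtain ⟨i, m, hi, hm⟩ := exists_maximal_over (O := O) (K := K) hinj p q hq
  refine ⟨fun q' hq' hq'p => ?_, fun b => ?_⟩
  · obtain ⟨i', m', hi', hm'⟩ := exists_maximal_over (O := O) (K := K) hinj p q' hq'p
    rw [← hm, ← hm', show i' = i from RingHom.ext fun c => Subtype.ext ((hi' c).trans (hi c).symm),
      Subsingleton.elim m' m]
  · haveI := m.isMaximal
    have hia : ∀ a : A, i (algebraMap A B a) = algebraMap O _ (algebraMap A O a) := fun a => Subtype.ext (by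
      rw [hi, ← IsScalarTower.algebraMap_apply]
      show algebraMap A K a = algebraMap O K (algebraMap A O a)
      rw [← IsScalarTower.algebraMap_apply])
    have key : ∀ c : B, (∃ o : O, i c - algebraMap O _ o ∈ m.asIdeal) → UH.ResAt (algebraMap A B) q c := by
      rintro c ⟨o, ho⟩
      obtain ⟨⟨a, ⟨s, hs⟩⟩, hos⟩ := IsLocalization.surj (M := p.primeCompl) o
      refine ⟨a, s, fun h => hs (hq.le h), ?_⟩
      rw [← hm, Ideal.mem_comap, map_sub, map_mul, hia, hia,
        ← show o * algebraMap A O s = algebraMap A O a from hos, map_mul,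
        show algebraMap O _ (algebraMap A O s) * i c - algebraMap O _ o * algebraMap O _ (algebraMap A O s) =
          algebraMap O _ (algebraMap A O s) * (i c - algebraMap O _ o) by ring]
      exact Ideal.mul_mem_left _ _ ho
    rcases powMem_of_purelyInseparable hO hrad m.asIdeal (i b) with h | ⟨r, hr, hrm, n, o, ho⟩
    · exact Or.inl (key b h)
    · refine Or.inr ⟨r, hr, ?_, n, key _ ⟨o, by rwa [map_pow]⟩⟩
      rw [← hm, Ideal.mem_comap, map_natCast]
      exact hrm

theorem universallyInjective_fromNormalization {X S : Scheme.{u}} [IsIntegral S] (f : X ⟶ S) [IsProper f]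
    [IsIntegral f.normalization] (hS : ∀ s : S, CAlg2.IsGeomUnibranch (S.presheaf.stalk s))
    (hη : GeometricallyConnected (f.fiberToSpecResidueField (genericPoint S)))
    (hd : f.fromNormalization.base (genericPoint f.normalization) ⤳ genericPoint S) :
    UniversallyInjective f.fromNormalization := by
  let g := f.fromNormalization
  let η' := genericPoint f.normalization
  rw [IsZariskiLocalAtTarget.iff_of_iSup_eq_top (P := @UniversallyInjective) _ (iSup_affineOpens_eq_top _)]
  rintro ⟨V, hV⟩
  let W := g ⁻¹ᵁ V
  have hW : IsAffineOpen W := hV.preimage g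
  have e : g ∣_ V = hW.isoSpec.hom ≫ Spec.map (g.app V) ≫ hV.isoSpec.inv := by
    rw [← cancel_mono V.ι, morphismRestrict_ι]
    simp only [Category.assoc, IsAffineOpen.isoSpec_inv_ι]
    rw [Scheme.Hom.app_eq_appLE, hV.SpecMap_appLE_fromSpec g hW le_rfl]
    simp [W]
  rw [e, MorphismProperty.cancel_left_of_respectsIso @UniversallyInjective,
    MorphismProperty.cancel_right_of_respectsIso @UniversallyInjective]
  letI : Algebra Γ(S, V) Γ(f.normalization, W) := (g.app V).hom.toAlgebra
  suffices hmain : ∀ q : Ideal Γ(f.normalization, W), q.IsPrime →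
      (∀ q' : Ideal Γ(f.normalization, W), q'.IsPrime → q'.comap (algebraMap Γ(S, V) Γ(f.normalization, W)) =
        q.comap (algebraMap Γ(S, V) Γ(f.normalization, W)) → q' = q) ∧
      ∀ b, UH.ResAt (algebraMap Γ(S, V) Γ(f.normalization, W)) q b ∨
        ∃ r : ℕ, r.Prime ∧ (r : Γ(f.normalization, W)) ∈ q ∧ ∃ n : ℕ,
          UH.ResAt (algebraMap Γ(S, V) Γ(f.normalization, W)) q (b ^ r ^ n) by
    exact UH.universallyInjective_of_inj2_rad (g.app V).hom
      (fun q q' hq hq' h => ((hmain q' hq').1 q hq h)) (fun q hq => (hmain q hq).2)
  intro q hq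
  let p : Ideal Γ(S, V) := q.comap (algebraMap Γ(S, V) Γ(f.normalization, W))
  haveI : p.IsPrime := Ideal.IsPrime.comap _
  let y : S := hV.fromSpec ⟨p, inferInstance⟩
  have hyV : y ∈ V := hV.opensRange_fromSpec.le ⟨_, rfl⟩
  let O := S.presheaf.stalk y
  let K := f.normalization.functionField
  have hgy : g η' ⤳ y := hd.trans ((genericPoint_spec S).specializes trivial)
  have hη'W : η' ∈ W := hgy.mem_open V.2 hyV
  letI : Algebra Γ(S, V) O := S.presheaf.algebra_section_stalk (⟨y, hyV⟩ : V)
  haveI hloc := hV.isLocalization_stalk ⟨y, hyV⟩
  have hpy : hV.primeIdealOf ⟨y, hyV⟩ = ⟨p, inferInstance⟩ := by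
    apply hV.fromSpec.isOpenEmbedding.injective
    rw [hV.fromSpec_primeIdealOf]
  haveI : IsLocalization.AtPrime O p := by
    simpa [hpy] using hloc
  letI : Algebra S.functionField K :=
    (CohIII.stalkToFunctionField g (genericPoint S) hd).toAlgebra (R := S.functionField) (S := K)
  haveI : IsPurelyInseparable S.functionField K := isPurelyInseparable_functionField f hη hd
  letI : Algebra O K := (CohIII.stalkToFunctionField g y hgy).toAlgebra
  letI : Algebra Γ(S, V) K := ((CohIII.stalkToFunctionField g y hgy).comp (algebraMap Γ(S, V) O)).toAlgebra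
  letI : Algebra Γ(f.normalization, W) K := (f.normalization.presheaf.germ W η' hη'W).hom.toAlgebra
  haveI : IsScalarTower Γ(S, V) O K := IsScalarTower.of_algebraMap_eq' rfl
  haveI : IsScalarTower Γ(S, V) Γ(f.normalization, W) K := IsScalarTower.of_algebraMap_eq' (by
    show (CohIII.stalkToFunctionField g y hgy).comp (S.presheaf.germ V y hyV).hom =
      (f.normalization.presheaf.germ W η' hη'W).hom.comp (g.app V).hom
    rw [CohIII.stalkToFunctionField, RingHom.comp_assoc, ← CommRingCat.hom_comp,
      TopCat.Presheaf.germ_stalkSpecializes, ← CommRingCat.hom_comp, Scheme.Hom.germ_stalkMap]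
    rfl)
  haveI : IsScalarTower O S.functionField K := IsScalarTower.of_algebraMap_eq' (by
    show CohIII.stalkToFunctionField g y hgy = (CohIII.stalkToFunctionField g (genericPoint S) hd).comp
      (S.presheaf.stalkSpecializes ((genericPoint_spec S).specializes trivial)).hom
    rw [CohIII.stalkToFunctionField, CohIII.stalkToFunctionField, RingHom.comp_assoc]
    congr 1
    rw [← CommRingCat.hom_comp, TopCat.Presheaf.stalkSpecializes_comp])
  haveI : Algebra.IsIntegral Γ(S, V) Γ(f.normalization, W) := ⟨IsIntegralHom.isIntegral_app (f := g) V hV⟩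
  have hinj : Function.Injective (algebraMap Γ(f.normalization, W) K) :=
    germ_injective_of_isIntegral (X := f.normalization) (U := W) η' hη'W
  exact inj2_rad_of_geomUnibranch (O := O) (F := S.functionField) (K := K) (hS y) hinj p q rfl

theorem geometricallyConnected_of_geomUnibranch {X S : Scheme.{u}} (f : X ⟶ S) [IsProper f] [IsDominant f]
    [IsIntegral X] [IsIntegral S] (hS : ∀ s : S, CAlg2.IsGeomUnibranch (S.presheaf.stalk s))
    (hη : GeometricallyConnected (f.fiberToSpecResidueField (genericPoint S))) :
    GeometricallyConnected f := by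
  haveI := isIntegral_normalization f
  have hdom : f.base (genericPoint X) ⤳ genericPoint S := genericPoint_specializes f
  haveI : Surjective f := surjective_of_specializes f hdom
  haveI : Surjective (f.toNormalization ≫ f.fromNormalization) := by
    rw [f.toNormalization_fromNormalization]; infer_instance
  haveI : Surjective f.fromNormalization := Surjective.of_comp f.toNormalization f.fromNormalization
  haveI : IsDominant f.fromNormalization := inferInstance
  rw [geometricallyConnected_iff_fromNormalization]
  exact ⟨universallyInjective_fromNormalization f hS hη (genericPoint_specializes f.fromNormalization), inferInstance⟩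

end Groth.Agent.Stein6
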