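import Groth.Agent.Lib.Stein6.Core
import Groth.Agent.S1340
import Mathlib

/-! # Stein factorization through the relative normalization -/

set_option autoImplicit false
universe u

open CategoryTheory CategoryTheory.Limits AlgebraicGeometry

namespace Groth.Agent.Stein6

variable {X S : Scheme.{u}} (f : X ⟶ S)

instance isProper_toNormalization [IsProper f] : IsProper f.toNormalization := by
  haveI : IsProper (f.toNormalization ≫ f.fromNormalization) := by
    rw [f.toNormalization_fromNormalization]; infer_instance
  exact IsProper.of_comp f.toNormalization f.fromNormalization

theorem bijective_toNormalization_app [IsProper f] (U : f.normalization.Opens) :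
    Function.Bijective (f.toNormalization.app U) :=
  haveI := S1340.result f U
  (ConcreteCategory.isIso_iff_bijective _).mp inferInstance

instance geometricallyConnected_toNormalization [IsProper f] : GeometricallyConnected f.toNormalization :=
  geometricallyConnected_of_app_bijective _ (bijective_toNormalization_app f)

end Groth.Agent.Stein6
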