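import Groth.Agent.Lib.Stein6.Basic
import Groth.Agent.Lib.HensProper6.Fibres
import Mathlib

/-! # The Stein factorization over a locally Noetherian base is finite -/

set_option autoImplicit false
universe u
set_option backward.isDefEq.respectTransparency.types false

open CategoryTheory CategoryTheory.Limits AlgebraicGeometry

namespace Groth.Agent.Stein6

theorem finite_appTop {X S : Scheme.{u}} (f : X ⟶ S) [IsProper f] [IsAffine S] [IsNoetherianRing Γ(S, ⊤)] :
    f.appTop.hom.Finite := by
  have h := HensProper6.finite_toGlobal (A := Γ(S, ⊤)) (f ≫ S.isoSpec.hom)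
  haveI : IsIso S.isoSpec.hom.appTop := inferInstanceAs (IsIso (S.isoSpec.hom.app ⊤))
  have e : f.appTop = inv ((Scheme.ΓSpecIso Γ(S, ⊤)).inv ≫ S.isoSpec.hom.appTop) ≫
      ((Scheme.ΓSpecIso Γ(S, ⊤)).inv ≫ (f ≫ S.isoSpec.hom).appTop) := by
    rw [IsIso.eq_inv_comp, Scheme.Hom.comp_appTop, Category.assoc]
  rw [e, CommRingCat.hom_comp]
  exact RingHom.Finite.comp h
    (RingHom.Finite.of_surjective _ (ConcreteCategory.bijective_of_isIso (inv ((Scheme.ΓSpecIso Γ(S, ⊤)).inv ≫ S.isoSpec.hom.appTop))).surjective)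

theorem finite_app {X S : Scheme.{u}} (f : X ⟶ S) [IsProper f] [IsLocallyNoetherian S] {V : S.Opens}
    (hV : IsAffineOpen V) : (f.app V).hom.Finite := by
  haveI : IsAffine (↑V : Scheme.{u}) := hV
  haveI : IsProper (f ∣_ V) := IsZariskiLocalAtTarget.restrict ‹_› V
  haveI : IsNoetherianRing Γ(S, V) := IsLocallyNoetherian.component_noetherian ⟨V, hV⟩
  haveI : IsNoetherianRing Γ((↑V : Scheme.{u}), ⊤) :=
    isNoetherianRing_of_ringEquiv Γ(S, V) V.topIso.symm.commRingCatIsoToRingEquiv
  have e : ∀ V' : S.Opens, V' = V → (f.app V').hom.Finite → (f.app V).hom.Finite := by rintro _ rfl h; exact h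
  refine e (V.ι ''ᵁ ⊤) V.ι_image_top ?_
  let i := X.presheaf.map (eqToHom (image_morphismRestrict_preimage f V ⊤)).op
  have h1 : (f.app (V.ι ''ᵁ ⊤) ≫ i).hom.Finite := by
    have h := finite_appTop (f ∣_ V)
    rw [morphismRestrict_appTop] at h
    exact h
  rw [CommRingCat.hom_comp] at h1
  have h2 : ((inv i).hom.comp (i.hom.comp (f.app (V.ι ''ᵁ ⊤)).hom)).Finite :=
    RingHom.Finite.comp (RingHom.Finite.of_surjective _ (ConcreteCategory.bijective_of_isIso (inv i)).surjective) h1
  rwa [← RingHom.comp_assoc, ← CommRingCat.hom_comp, IsIso.hom_inv_id, CommRingCat.hom_id, RingHom.id_comp] at h2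

theorem isFinite_fromNormalization {X S : Scheme.{u}} (f : X ⟶ S) [IsProper f] [IsLocallyNoetherian S] :
    IsFinite f.fromNormalization := by
  refine { finite_app := fun U hU => ?_ }
  have hfin := finite_app f hU
  let t := f.toNormalization.app (f.fromNormalization ⁻¹ᵁ U)
  haveI : IsIso t := S1340.result f _
  have hp : f ⁻¹ᵁ U = f.toNormalization ⁻¹ᵁ (f.fromNormalization ⁻¹ᵁ U) := by
    rw [← Scheme.Hom.comp_preimage, f.toNormalization_fromNormalization]
  have e : f.app U ≫ X.presheaf.map (eqToHom hp.symm).op = f.fromNormalization.app U ≫ t := by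
    rw [← Scheme.Hom.comp_app]
    simp [Scheme.Hom.congr_app f.toNormalization_fromNormalization U]
  have e' : f.fromNormalization.app U = f.app U ≫ (X.presheaf.map (eqToHom hp.symm).op ≫ inv t) := by
    rw [← Category.assoc, e, Category.assoc, IsIso.hom_inv_id, Category.comp_id]
  rw [e', CommRingCat.hom_comp]
  exact RingHom.Finite.comp (RingHom.Finite.of_surjective _
    (ConcreteCategory.bijective_of_isIso (X.presheaf.map (eqToHom hp.symm).op ≫ inv t)).surjective) hfin

end Groth.Agent.Stein6
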