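import Groth.Agent.Lib.Stein6.StrictLocal
import Groth.Agent.Lib.Stein6.Finite
import Groth.Agent.Lib.Stein6.Basic
import Groth.Agent.Lib.ZConn5.CountFlat
import Groth.Agent.Lib.GeomRed18.Apps
import Groth.Agent.Lib.RigidRel.Global
import Mathlib

/-! # The Stein factor of a proper flat morphism with geometrically reduced fibres is finite étale -/

set_option autoImplicit false
universe u
set_option backward.isDefEq.respectTransparency.types false

open CategoryTheory CategoryTheory.Limits AlgebraicGeometry IsLocalRing

namespace Groth.Agent.Stein6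

theorem geometricallyReduced_fibre_of_algClosed {X S : Scheme.{u}} (f : X ⟶ S) (s : S)
    (hred : ∀ (Ω : Type u) [Field Ω] [IsAlgClosed Ω] (σ : Spec (CommRingCat.of Ω) ⟶ S),
      IsReduced (pullback f σ)) : GeometricallyReduced (f.fiberToSpecResidueField s) := by
  let k : Type u := S.residueField s
  letI : (f.fiber s).Over (Spec (CommRingCat.of k)) := ⟨f.fiberToSpecResidueField s⟩
  let Ω := AlgebraicClosure k
  let a : Spec (CommRingCat.of Ω) ⟶ Spec (S.residueField s) := Spec.map (CommRingCat.ofHom (algebraMap k Ω))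
  haveI := hred Ω (a ≫ S.fromSpecResidueField s)
  haveI : AlgebraicGeometry.IsReduced (pullback (f.fiberToSpecResidueField s) a) :=
    isReduced_of_isOpenImmersion (pullbackLeftPullbackSndIso f (S.fromSpecResidueField s) a).hom
  haveI : AlgebraicGeometry.IsReduced (Curv2.bc k (f.fiber s) Ω) := ‹_›
  exact GeomRed.geometricallyReduced_of_perfect (k := k) (X := f.fiber s) Ω

/-- Properties of the first factor are inherited when the second factor is étale. -/
theorem factor_props {X Z S : Scheme.{u}} (q : X ⟶ Z) (h : Z ⟶ S) [Etale h]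
    [Flat (q ≫ h)] [LocallyOfFinitePresentation (q ≫ h)] [GeometricallyReduced (q ≫ h)] :
    Flat q ∧ LocallyOfFinitePresentation q ∧ GeometricallyReduced q := by
  let γ : X ⟶ pullback (q ≫ h) h := pullback.lift (𝟙 X) q (by simp)
  haveI : Etale (γ ≫ pullback.fst (q ≫ h) h) := by rw [pullback.lift_fst]; infer_instance
  haveI : Etale γ := Etale.of_comp γ (pullback.fst (q ≫ h) h)
  haveI : Mono γ := mono_of_mono_fac (pullback.lift_fst (𝟙 X) q (by simp) : γ ≫ _ = 𝟙 X)
  haveI : IsOpenImmersion γ := IsOpenImmersion.of_flat_of_mono γ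
  rw [show q = γ ≫ pullback.snd (q ≫ h) h from (pullback.lift_snd _ _ _).symm]
  exact ⟨inferInstance, inferInstance, geometricallyReduced_openImmersion_comp γ _⟩

theorem exists_etale_nhd {X S : Scheme.{u}} (f : X ⟶ S) [IsProper f] [Flat f] [IsLocallyNoetherian S] (s : S)
    [hs : GeometricallyReduced (f.fiberToSpecResidueField s)] :
    ∃ V : S.Opens, s ∈ V ∧ Etale (f.fromNormalization ∣_ V) := by
  let h := f.fromNormalization
  haveI : IsFinite h := isFinite_fromNormalization f
  haveI : LocallyOfFinitePresentation h :=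
    LocallyOfFinitePresentation.iff_locallyOfFiniteType.mpr inferInstance
  let O : CommRingCat.{u} := S.presheaf.stalk s
  let R : Type u := Hens.Hsh O
  haveI : IsSepClosed (ResidueField R) := by
    haveI : IsSepClosure (ResidueField O) (ResidueField R) :=
      Hensel.IsStrictHenselization.isSepClosure (R := O)
    exact IsSepClosure.sep_closed (ResidueField O)
  haveI : IsNoetherianRing R := inferInstance
  let φ : O ⟶ CommRingCat.of R := CommRingCat.ofHom (algebraMap O R)
  haveI : Flat (Spec.map φ) :=
    (HasRingHomProperty.Spec_iff (P := @Flat)).mpr (RingHom.flat_algebraMap_iff.mpr inferInstance)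
  haveI : Flat (S.fromSpecStalk s) := Descend.flat_fromSpecStalk s
  let j : Spec (CommRingCat.of R) ⟶ S := Spec.map φ ≫ S.fromSpecStalk s
  let Ω : Type u := ResidueField R
  let r : Spec (CommRingCat.of Ω) ⟶ Spec (CommRingCat.of R) := Spec.map (CommRingCat.ofHom (residue R))
  let κ : S.residueField s ⟶ CommRingCat.of Ω := CommRingCat.ofHom (algebraMap (ResidueField O) Ω)
  let k : Spec (CommRingCat.of Ω) ⟶ Spec (S.residueField s) := Spec.map κ
  have hkr : k ≫ S.fromSpecResidueField s = r ≫ j := by
    have h1 : S.residue s ≫ κ = φ ≫ CommRingCat.ofHom (residue R) := rfl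
    show Spec.map κ ≫ Spec.map (S.residue s) ≫ S.fromSpecStalk s =
      Spec.map (CommRingCat.ofHom (residue R)) ≫ Spec.map φ ≫ S.fromSpecStalk s
    rw [← Spec.map_comp_assoc, ← Spec.map_comp_assoc, h1]
  let e : pullback (pullback.snd f j) r ≅ pullback (f.fiberToSpecResidueField s) k :=
    pullbackLeftPullbackSndIso f j r ≪≫ pullback.congrHom rfl hkr.symm ≪≫
      (pullbackLeftPullbackSndIso f (S.fromSpecResidueField s) k).symm
  haveI : GeometricallyReduced (pullback.snd (pullback.snd f j) r) := by
    have he : pullback.snd (pullback.snd f j) r = e.hom ≫ pullback.snd (f.fiberToSpecResidueField s) k := by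
      simp only [e, Iso.trans_hom, Iso.symm_hom, Category.assoc, pullback.congrHom_hom, Scheme.Hom.fiberToSpecResidueField]
      erw [pullbackLeftPullbackSndIso_inv_snd_snd, pullback.lift_snd, Category.comp_id, pullbackLeftPullbackSndIso_hom_snd]
    rw [he]
    exact geometricallyReduced_openImmersion_comp _ _
  haveI : GeometricallyReduced (pullback.snd (pullback.snd f j)
      (RigidRel.quotBase (R := CommRingCat.of R) (maximalIdeal R))) :=
    ‹GeometricallyReduced (pullback.snd (pullback.snd f j) r)›
  let q : pullback f j ⟶ pullback h j :=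
    pullback.lift (pullback.fst f j ≫ f.toNormalization) (pullback.snd f j)
      (by simp [h, pullback.condition])
  have hq : IsPullback (pullback.fst f j) q f.toNormalization (pullback.fst h j) :=
    IsPullback.of_bot (by
      rw [show q ≫ pullback.snd h j = pullback.snd f j from pullback.lift_snd _ _ _,
        f.toNormalization_fromNormalization]
      exact IsPullback.of_hasPullback f j)
      (pullback.lift_fst _ _ _).symm (IsPullback.of_hasPullback h j)
  haveI : IsProper q := MorphismProperty.of_isPullback hq inferInstance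
  haveI : GeometricallyConnected q := MorphismProperty.of_isPullback hq inferInstance
  haveI : Etale (pullback.snd h j) := etale_of_strictlyHenselian (pullback.snd f j) q _ (pullback.lift_snd _ _ _)
    fun U => Blanchard19.bijective_app_of_isPullback hq (bijective_toNormalization_app f) U
  have hsj : s ∈ Set.range j := by
    refine ⟨closedPoint R, ?_⟩
    show S.fromSpecStalk s (Spec.map φ (closedPoint R)) = s
    haveI : IsLocalHom φ.hom := inferInstanceAs (IsLocalHom (algebraMap O R))
    rw [show Spec.map φ (closedPoint R) = closedPoint O from Spec_closedPoint, Scheme.fromSpecStalk_closedPoint]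
  have hfib : ∀ y, h y = s → ∃ V : f.normalization.Opens, y ∈ V ∧ Etale (V.ι ≫ h) := by
    intro y hy
    obtain ⟨x, hx⟩ : y ∈ Set.range (pullback.fst h j) := by
      rw [Scheme.Pullback.range_fst]; exact hy ▸ hsj
    rw [← hx]
    refine Descend.etale_nhd_of_flat_baseChange (IsPullback.of_hasPullback h j) x ⟨⊤, trivial, ?_⟩
    infer_instance
  choose W hW hWe using hfib
  let E : f.normalization.Opens := ⨆ p : {y : f.normalization // h y = s}, W p.1 p.2
  let V : S.Opens := ⟨(h '' (E : Set f.normalization)ᶜ)ᶜ, (h.isClosedMap _ E.isOpen.isClosed_compl).isOpen_compl⟩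
  refine ⟨V, ?_, ?_⟩
  · rintro ⟨y, hy, hys⟩
    exact hy (TopologicalSpace.Opens.mem_iSup.mpr ⟨⟨y, hys⟩, hW y hys⟩)
  · haveI : Etale (E.ι ≫ h) := by
      rw [IsZariskiLocalAtSource.iff_of_openCover (P := @Etale)
        ((E : Scheme.{u}).openCoverOfIsOpenCover (fun p : {y : f.normalization // h y = s} => E.ι ⁻¹ᵁ W p.1 p.2)
          (by
            refine eq_top_iff.mpr fun x _ => ?_
            obtain ⟨p, hp⟩ := TopologicalSpace.Opens.mem_iSup.mp x.2
            exact TopologicalSpace.Opens.mem_iSup.mpr ⟨p, hp⟩))]
      intro p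
      show Etale ((E.ι ⁻¹ᵁ W p.1 p.2).ι ≫ E.ι ≫ h)
      haveI := hWe p.1 p.2
      rw [← morphismRestrict_ι_assoc]
      infer_instance
    have hle : h ⁻¹ᵁ V ≤ E := fun y hy => by
      by_contra hyE
      exact hy ⟨y, hyE, rfl⟩
    haveI : Etale ((h ∣_ V) ≫ V.ι) := by
      rw [morphismRestrict_ι, ← f.normalization.homOfLE_ι hle, Category.assoc]
      infer_instance
    exact Etale.of_comp (h ∣_ V) V.ι

/-- Over an affine base some finite étale scheme is a Stein factor. -/
theorem exists_finite_etale {A : CommRingCat.{u}} {X : Scheme.{u}} (f : X ⟶ Spec A) [IsProper f] [Flat f]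
    [LocallyOfFinitePresentation f] (hf : ∀ s, GeometricallyReduced (f.fiberToSpecResidueField s)) :
    ∃ (Z : Scheme.{u}) (q : X ⟶ Z) (h : Z ⟶ Spec A), q ≫ h = f ∧ IsFinite h ∧ Etale h ∧
      Function.Bijective q.appTop.hom := by
  haveI : GeometricallyReduced f := by
    refine ⟨?_⟩
    rw [geometrically_iff_forall_fiberToSpecResidueField]
    exact fun s => (hf s).geometrically_isReduced
  obtain ⟨S₁, X₁, _, π, u₁, qX, sq, _, _, _⟩ := ZConn5.exists_model f
  have hV : ∀ p, ∃ V : S₁.Opens, π p ∈ V ∧ Etale (u₁.fromNormalization ∣_ V) := fun p => by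
    haveI := (ZConn5.geometricallyReduced_fibre_iff sq p).mp (hf p)
    exact exists_etale_nhd u₁ (π p)
  choose V hπV hVe using hV
  let h₁ := u₁.fromNormalization
  haveI : IsFinite h₁ := isFinite_fromNormalization u₁
  let h := pullback.snd h₁ π
  haveI : IsFinite h := MorphismProperty.pullback_snd _ _ inferInstance
  haveI : Etale h := by
    rw [IsZariskiLocalAtTarget.iff_of_openCover (P := @Etale) ((Spec A).openCoverOfIsOpenCover
      (fun p => π ⁻¹ᵁ V p)
      (eq_top_iff.mpr fun p _ => TopologicalSpace.Opens.mem_iSup.mpr ⟨p, hπV p⟩))]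
    intro p
    haveI := hVe p
    let π' : (π ⁻¹ᵁ V p : Scheme.{u}) ⟶ V p := π ∣_ V p
    have e1 : IsPullback (pullback.snd h ((π ⁻¹ᵁ V p).ι)) (pullback.fst h ((π ⁻¹ᵁ V p).ι) ≫ pullback.fst h₁ π)
        (π' ≫ (V p).ι) h₁ := by
      rw [morphismRestrict_ι]
      exact ((IsPullback.of_hasPullback h (π ⁻¹ᵁ V p).ι).paste_horiz (IsPullback.of_hasPullback h₁ π)).flip
    have e2 := isPullback_morphismRestrict h₁ (V p)
    have e3 := IsPullback.of_hasPullback π' (h₁ ∣_ V p)
    have e4 := e3.paste_vert e2
    show Etale (pullback.snd h (π ⁻¹ᵁ V p).ι)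
    haveI : Etale (pullback.fst π' (h₁ ∣_ V p)) := inferInstance
    rw [← IsPullback.isoIsPullback_hom_fst _ _ e1 e4]
    infer_instance
  let q : X ⟶ pullback h₁ π := pullback.lift (qX ≫ u₁.toNormalization) f (by simp [h₁, sq.w])
  have hqf : q ≫ h = f := pullback.lift_snd _ _ _
  have hq : IsPullback qX q u₁.toNormalization (pullback.fst h₁ π) :=
    IsPullback.of_bot (by rw [hqf, u₁.toNormalization_fromNormalization]; exact sq)
      (pullback.lift_fst _ _ _).symm (IsPullback.of_hasPullback h₁ π)
  haveI : IsProper q := MorphismProperty.of_isPullback hq inferInstance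
  haveI : GeometricallyConnected q := MorphismProperty.of_isPullback hq inferInstance
  haveI : Surjective q := MorphismProperty.of_isPullback hq inferInstance
  haveI : Flat (q ≫ h) := by rw [hqf]; infer_instance
  haveI : LocallyOfFinitePresentation (q ≫ h) := by rw [hqf]; infer_instance
  haveI : GeometricallyReduced (q ≫ h) := by rw [hqf]; infer_instance
  obtain ⟨_, _, _⟩ := factor_props q h
  haveI : IsAffine (pullback h₁ π) := isAffine_of_isAffineHom h
  exact ⟨_, q, h, hqf, inferInstance, inferInstance,
    RigidRel.bijective_app' q (RigidRel.constFibres_of_geometrically q) (isAffineOpen_top _)⟩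

/-- Two affine Stein factors agree. -/
theorem exists_iso_of_bijective {X W Z U : Scheme.{u}} [IsAffine W] [IsAffine Z] [IsAffine U]
    (a : X ⟶ W) (h₁ : W ⟶ U) (b : X ⟶ Z) (h₂ : Z ⟶ U) (w : a ≫ h₁ = b ≫ h₂)
    (ha : Function.Bijective a.appTop.hom) (hb : Function.Bijective b.appTop.hom) :
    ∃ e : W ≅ Z, e.hom ≫ h₂ = h₁ := by
  haveI : IsIso a.appTop := (ConcreteCategory.isIso_iff_bijective _).mpr ha
  haveI : IsIso b.appTop := (ConcreteCategory.isIso_iff_bijective _).mpr hb
  let φ : Γ(Z, ⊤) ⟶ Γ(W, ⊤) := b.appTop ≫ inv a.appTop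
  let g : W ⟶ Z := W.toSpecΓ ≫ Spec.map φ ≫ Z.isoSpec.inv
  have hg : g.appTop = φ := by
    have h0 : Z.isoSpec.inv.appTop ≫ (Scheme.ΓSpecIso Γ(Z, ⊤)).hom = 𝟙 _ := by
      rw [← Scheme.toSpecΓ_appTop, ← Scheme.Hom.comp_appTop, Scheme.toSpecΓ_isoSpec_inv, Scheme.Hom.id_appTop]
    rw [Scheme.Hom.comp_appTop, Scheme.Hom.comp_appTop, Scheme.toSpecΓ_appTop, Category.assoc, Scheme.ΓSpecIso_naturality,
      reassoc_of% h0]
  haveI : IsIso g := isIso_of_bijective_appTop g
    (by rw [hg]; exact ConcreteCategory.bijective_of_isIso φ)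
  refine ⟨asIso g, ext_of_isAffine ?_⟩
  rw [asIso_hom, Scheme.Hom.comp_appTop, hg, ← cancel_mono a.appTop, ← Scheme.Hom.comp_appTop, w]
  simp [φ]

/-- **EGA III 7.8.10**: the Stein factor is finite étale. -/
theorem isFinite_etale_fromNormalization {X S : Scheme.{u}} (f : X ⟶ S) [IsProper f] [Flat f]
    [LocallyOfFinitePresentation f] (hf : ∀ s, GeometricallyReduced (f.fiberToSpecResidueField s)) :
    IsFinite f.fromNormalization ∧ Etale f.fromNormalization := by
  haveI : GeometricallyReduced f := by
    refine ⟨?_⟩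
    rw [geometrically_iff_forall_fiberToSpecResidueField]
    exact fun s => (hf s).geometrically_isReduced
  let h := f.fromNormalization
  let tn := f.toNormalization
  suffices key : ∀ U : S.affineOpens, IsFinite (h ∣_ U.1) ∧ Etale (h ∣_ U.1) from
    ⟨(IsZariskiLocalAtTarget.iff_of_iSup_eq_top (fun U : S.affineOpens => (U : S.Opens))
        (iSup_affineOpens_eq_top S)).mpr fun U => (key U).1,
      (IsZariskiLocalAtTarget.iff_of_iSup_eq_top (fun U : S.affineOpens => (U : S.Opens))
        (iSup_affineOpens_eq_top S)).mpr fun U => (key U).2⟩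
  rintro ⟨U, hU⟩
  haveI : IsAffine U := hU
  let W : f.normalization.Opens := h ⁻¹ᵁ U
  haveI : IsAffine (W : Scheme.{u}) := isAffine_of_isAffineHom (h ∣_ U)
  let a : (tn ⁻¹ᵁ W : Scheme.{u}) ⟶ W := tn ∣_ W
  let h' := h ∣_ U
  have hres : IsPullback (tn ⁻¹ᵁ W).ι (a ≫ h') f U.ι := by
    have := ((isPullback_morphismRestrict tn W).paste_horiz (isPullback_morphismRestrict h U)).flip
    rwa [f.toNormalization_fromNormalization] at this
  haveI : IsProper (a ≫ h') := MorphismProperty.of_isPullback hres ‹IsProper f›
  haveI : Flat (a ≫ h') := MorphismProperty.of_isPullback hres ‹Flat f›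
  haveI : LocallyOfFinitePresentation (a ≫ h') := MorphismProperty.of_isPullback hres ‹LocallyOfFinitePresentation f›
  haveI : GeometricallyReduced (a ≫ h') := MorphismProperty.of_isPullback hres ‹GeometricallyReduced f›
  let u := (a ≫ h') ≫ (Scheme.isoSpec U).hom
  haveI : GeometricallyReduced u := by
    refine ⟨?_⟩
    exact (MorphismProperty.cancel_right_of_respectsIso (geometrically IsReduced) (a ≫ h') _).mpr
      GeometricallyReduced.geometrically_isReduced
  obtain ⟨Z, q, hZ, hqZ, _, _, hb⟩ := exists_finite_etale u fun _ => inferInstance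
  have ha : Function.Bijective a.appTop.hom := by
    rw [morphismRestrict_appTop]
    have : Function.Bijective (tn.app (W.ι ''ᵁ ⊤) ≫ X.presheaf.map
        (eqToHom (image_morphismRestrict_preimage tn W ⊤)).op).hom :=
      (ConcreteCategory.bijective_of_isIso (X.presheaf.map _)).comp (bijective_toNormalization_app f _)
    exact this
  haveI : IsAffine Z := isAffine_of_isAffineHom hZ
  obtain ⟨e, he⟩ := exists_iso_of_bijective a h' q (hZ ≫ (Scheme.isoSpec U).inv)
    (by rw [reassoc_of% hqZ]; simp [u]) ha hb
  show IsFinite h' ∧ Etale h'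
  rw [← he]
  exact ⟨inferInstance, inferInstance⟩

/-- The formation of the Stein factorization commutes with base change. -/
theorem isIso_normalizationPullback {X S T : Scheme.{u}} (f : X ⟶ S) [IsProper f] [Flat f]
    [LocallyOfFinitePresentation f] [GeometricallyReduced f] (g : T ⟶ S) :
    IsIso (f.normalizationPullback g) := by
  haveI := (isFinite_etale_fromNormalization f fun _ => inferInstance).2
  let tn := f.toNormalization
  let h := f.fromNormalization
  haveI : Flat (tn ≫ h) := by rw [f.toNormalization_fromNormalization]; infer_instance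
  haveI : LocallyOfFinitePresentation (tn ≫ h) := by rw [f.toNormalization_fromNormalization]; infer_instance
  haveI : GeometricallyReduced (tn ≫ h) := by rw [f.toNormalization_fromNormalization]; infer_instance
  obtain ⟨_, _, _⟩ := factor_props tn h
  let f' := pullback.snd f g
  let φ := f.normalizationPullback g
  let q := f'.toNormalization ≫ φ
  have h2 : q ≫ pullback.snd h g = pullback.snd f g := by simp [q, f', φ, h]
  have hq : IsPullback (pullback.fst f g) q tn (pullback.fst h g) :=
    IsPullback.of_bot (by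
      rw [h2, f.toNormalization_fromNormalization]
      exact IsPullback.of_hasPullback f g)
      (by simp [q, f', φ, h, tn]) (IsPullback.of_hasPullback h g)
  haveI : IsProper q := MorphismProperty.of_isPullback hq inferInstance
  haveI : GeometricallyConnected q := MorphismProperty.of_isPullback hq inferInstance
  haveI : GeometricallyReduced q := MorphismProperty.of_isPullback hq inferInstance
  haveI : Flat q := MorphismProperty.of_isPullback hq inferInstance
  haveI : LocallyOfFinitePresentation q := MorphismProperty.of_isPullback hq inferInstance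
  haveI : Surjective q := MorphismProperty.of_isPullback hq inferInstance
  haveI : IsAffineHom (φ ≫ pullback.snd h g) := by
    rw [show φ ≫ pullback.snd h g = f'.fromNormalization by simp [φ, f', h]]; infer_instance
  haveI : IsAffineHom φ := IsAffineHom.of_comp φ (pullback.snd h g)
  show MorphismProperty.isomorphisms Scheme φ
  rw [IsZariskiLocalAtTarget.iff_of_iSup_eq_top (P := MorphismProperty.isomorphisms Scheme)
    (fun W : (pullback h g).affineOpens => (W : (pullback h g).Opens)) (iSup_affineOpens_eq_top _)]
  rintro ⟨W, hW⟩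
  haveI : IsAffine W := hW
  haveI : IsAffine (φ ⁻¹ᵁ W : Scheme.{u}) := isAffine_of_isAffineHom (φ ∣_ W)
  refine isIso_of_bijective_appTop (φ ∣_ W) ?_
  have hqW : Function.Bijective (q.app (W.ι ''ᵁ ⊤)).hom :=
    RigidRel.bijective_app' q (RigidRel.constFibres_of_geometrically q)
      ((Scheme.Opens.ι_image_top W).symm ▸ hW)
  have hqW' : Function.Bijective ((φ.app (W.ι ''ᵁ ⊤) ≫ f'.toNormalization.app _).hom) := hqW
  rw [morphismRestrict_appTop]
  have : Function.Bijective (φ.app (W.ι ''ᵁ ⊤) ≫ f'.normalization.presheaf.map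
      (eqToHom (image_morphismRestrict_preimage φ W ⊤)).op).hom :=
    (ConcreteCategory.bijective_of_isIso (f'.normalization.presheaf.map _)).comp
      ((Function.Bijective.of_comp_iff' (bijective_toNormalization_app f' _) _).mp hqW')
  exact this

end Groth.Agent.Stein6
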