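import Groth.Agent.Lib.Stein6.GenFibre
import Groth.Agent.Lib.ZConn5.CountFlat
import Groth.Agent.Lib.FibreTop.Apps
import Groth.Agent.Lib.FibDepth5.GeomNormalConstr
import Groth.Agent.Lib.GeomIrr18.Scheme
import Mathlib

/-! # Spreading geometric properties of fibres -/

set_option autoImplicit false
universe u
set_option backward.isDefEq.respectTransparency.types false

open CategoryTheory CategoryTheory.Limits AlgebraicGeometry TopologicalSpace Topology
open Groth.Agent.FibDepth5 Groth.Agent.FibDim14

namespace Groth.Agent.Stein6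

variable {X Y : Scheme.{u}}

/-- The locus of geometrically reduced fibres is locally constructible. -/
theorem isLocallyConstructible_geomReducedFibre (f : X ⟶ Y) [QuasiCompact f] [LocallyOfFinitePresentation f] :
    IsLocallyConstructible {y : Y | GeometricallyReduced (f.fiberToSpecResidueField y)} := by
  let W : Set X := {x | ∀ y, y ⤳ x → f y = f x → FlatMor.fibreDimAt f y ≤ ((rd f y + 0 : ℕ) : WithBot ℕ∞) → y ∉ fibSing f} ∩
    {x | LocCoh.HasSk 1 (CInt.fiberStalk f x) (CInt.fiberStalk f x)}
  have hW : IsLocallyConstructible W :=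
    (isLocallyConstructible_geomRk f 0).inter
      (Ring.isLocallyConstructible_setOf_qq_fibre
        (Q := fun R _ _ => LocCoh.HasSk 1 R R)
        (fun _ _ _ _ _ _ e => (hasSk_iff_of_ringEquiv e 1).1)
        (fun S _ _ _ K _ _ _ q _ => hasSk_tensor_field_iff 1 S K q)
        (fun g _ _ => isOpen_fibre_hasSk g 1) f)
  refine (congrArg IsLocallyConstructible (Set.ext fun y => ?_)).mp (FibreTop.isLocallyConstructible_forall_fibre f hW)
  refine Iff.trans ?_ (ZConn5.geometricallyReduced_iff_forall (k := Y.residueField y) (f.fiberToSpecResidueField y)).symm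
  refine Iff.trans ?_ (forall_fiber_iff f (fun y z => FBase.IsGeomReducedAt (f.fiberToSpecResidueField y) z) y).symm
  refine forall₂_congr fun x _ => ?_
  refine Iff.trans ?_ (geomReduced_fibre_iff f x).symm
  exact and_congr (forall₃_congr fun y hyx he => imp_congr_left (fibreDimAt_le_rd_iff f y)) Iff.rfl

theorem nonempty_of_encard_eq_one {α : Type*} [TopologicalSpace α] (h : (irreducibleComponents α).encard = 1) :
    IrreducibleSpace α := by
  obtain ⟨Z, hZ⟩ := Set.encard_eq_one.1 h
  have hcov : Z = Set.univ := Set.eq_univ_of_forall fun x => by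
    have := irreducibleComponent_mem_irreducibleComponents x
    rw [hZ, Set.mem_singleton_iff] at this
    exact this ▸ mem_irreducibleComponent
  refine (irreducibleSpace_def _).mpr ?_
  show IsIrreducible (Set.univ : Set α)
  exact hcov ▸ (hZ.ge (Set.mem_singleton Z)).1

theorem encard_eq_one_of_irreducibleSpace (α : Type*) [TopologicalSpace α] [IrreducibleSpace α] :
    (irreducibleComponents α).encard = 1 := by
  rw [Set.encard_eq_one]
  refine ⟨Set.univ, Set.eq_singleton_iff_unique_mem.2 ⟨⟨IrreducibleSpace.isIrreducible_univ α, fun _ _ _ => Set.subset_univ _⟩,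
    fun Z hZ => Set.univ_subset_iff.1 (hZ.2 (IrreducibleSpace.isIrreducible_univ α) (Set.subset_univ _))⟩⟩

theorem geometricallyIrreducible_fibre_iff_count (f : X ⟶ Y) (y : Y) :
    GeometricallyIrreducible (f.fiberToSpecResidueField y) ↔ MoreMor.nGeomIrredComp f y = 1 := by
  constructor
  · intro h
    haveI := h
    haveI : IrreducibleSpace ↥(MoreMor.geomFiber f y) :=
      GeometricallyIrreducible.geometrically_irreducibleSpace (f := f.fiberToSpecResidueField y) _ _ _
        (IsPullback.of_hasPullback _ _)
    exact encard_eq_one_of_irreducibleSpace _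
  · intro h
    exact @GeomIrr.geometricallyIrreducible_of_bc (Y.residueField y) _ _ (f.fiberToSpecResidueField y)
      (SeparableClosure (Y.residueField y)) _ _ _ (nonempty_of_encard_eq_one h : IrreducibleSpace ↥(MoreMor.geomFiber f y))

theorem geometricallyConnected_fibre_iff_count (f : X ⟶ Y) (y : Y) :
    GeometricallyConnected (f.fiberToSpecResidueField y) ↔ MoreMor.nGeomConnComp f y = 1 := by
  constructor
  · intro h
    haveI := h
    haveI : ConnectedSpace ↥(MoreMor.geomFiber f y) :=
      GeometricallyConnected.geometrically_connectedSpace (f := f.fiberToSpecResidueField y) _ _ _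
        (IsPullback.of_hasPullback _ _)
    refine le_antisymm ((ENat.card_le_one_iff_subsingleton _).2
      ⟨fun a b => Quotient.inductionOn₂' a b fun x z => ConnectedComponents.coe_eq_coe'.2 (by
        rw [PreconnectedSpace.connectedComponent_eq_univ]; trivial)⟩) ?_
    exact (ENat.one_le_card_iff_nonempty _).2 inferInstance
  · intro h
    haveI : Subsingleton (_root_.ConnectedComponents ↥(MoreMor.geomFiber f y)) :=
      (ENat.card_le_one_iff_subsingleton _).1 h.le
    haveI : PreconnectedSpace ↥(MoreMor.geomFiber f y) := preconnectedSpace_iff_connectedComponent.2 fun x =>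
      Set.eq_univ_of_forall fun z => ConnectedComponents.coe_eq_coe'.1 (Subsingleton.elim _ _)
    obtain ⟨c⟩ := (ENat.one_le_card_iff_nonempty _).1 h.ge
    obtain ⟨z, -⟩ := ConnectedComponents.surjective_coe c
    haveI : ConnectedSpace ↥(MoreMor.geomFiber f y) := { toNonempty := ⟨z⟩ }
    exact @GeomIrr.geometricallyConnected_of_bc (Y.residueField y) _ _ (f.fiberToSpecResidueField y)
      (SeparableClosure (Y.residueField y)) _ _ _ ‹ConnectedSpace ↥(MoreMor.geomFiber f y)›

theorem geometricallyReduced_of_fibres (f : X ⟶ Y) (h : ∀ y, GeometricallyReduced (f.fiberToSpecResidueField y)) :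
    GeometricallyReduced f := by
  refine ⟨?_⟩
  rw [geometrically_iff_forall_fiberToSpecResidueField]
  exact fun y => (h y).geometrically_isReduced

theorem geometricallyIrreducible_of_fibres (f : X ⟶ Y)
    (h : ∀ y, GeometricallyIrreducible (f.fiberToSpecResidueField y)) : GeometricallyIrreducible f := by
  refine ⟨?_⟩
  rw [geometrically_iff_forall_fiberToSpecResidueField]
  exact fun y => (h y).geometrically_irreducibleSpace

/-- A property of fibres, constant or not on a constructible set, holds near the generic point. -/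
theorem geometricallyReduced_near_generic [IrreducibleSpace ↥Y] (f : X ⟶ Y) [LocallyOfFiniteType f] [QuasiCompact f] :
    ∃ V : Y.Opens, genericPoint ↥Y ∈ V ∧ ∀ y ∈ V, (GeometricallyReduced (f.fiberToSpecResidueField y) ↔
      GeometricallyReduced (f.fiberToSpecResidueField (genericPoint ↥Y))) := by
  obtain ⟨D, _, i, hi, hio, hη, hfp⟩ := FibDim4.exists_generic_fp f
  haveI := hfp
  let g := pullback.snd f i
  have hE : IsConstructible {r : Spec D | GeometricallyReduced (g.fiberToSpecResidueField r)} :=
    (isLocallyConstructible_geomReducedFibre g).isConstructible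
  have htr : ∀ r, GeometricallyReduced (g.fiberToSpecResidueField r) ↔ GeometricallyReduced (f.fiberToSpecResidueField (i r)) :=
    fun r => ZConn5.geometricallyReduced_fibre_iff (IsPullback.of_hasPullback f i) r
  obtain ⟨d, hd, hds⟩ : ∃ d : D, d ≠ 0 ∧ ∀ r : Spec D, d ∉ (r : PrimeSpectrum D).asIdeal →
      (GeometricallyReduced (g.fiberToSpecResidueField r) ↔ GeometricallyReduced (g.fiberToSpecResidueField (GeomSpread4.bot D))) := by
    by_cases hb : GeometricallyReduced (g.fiberToSpecResidueField (GeomSpread4.bot D))
    · obtain ⟨d, hd, hds⟩ := GeomSpread4.exists_basicOpen_subset hE hb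
      exact ⟨d, hd, fun r hr => iff_of_true (hds r hr) hb⟩
    · obtain ⟨d, hd, hds⟩ := GeomSpread4.exists_basicOpen_subset hE.compl hb
      exact ⟨d, hd, fun r hr => iff_of_false (hds r hr) hb⟩
  refine ⟨⟨i '' (PrimeSpectrum.basicOpen d : Set (PrimeSpectrum D)),
    (show Topology.IsOpenEmbedding i from ⟨i.isEmbedding, hio⟩).isOpenMap _ (PrimeSpectrum.basicOpen d).2⟩,
    ⟨GeomSpread4.bot D, fun h0 => hd (Ideal.mem_bot.1 h0), apply_bot i hη⟩, ?_⟩
  rintro _ ⟨r, hr, rfl⟩
  rw [← htr, hds r hr, htr, apply_bot i hη]

end Groth.Agent.Stein6
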