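import Groth.Prelude.Def_CAlg2
import Mathlib

/-! # Integral closures of unibranch local domains in field extensions -/

set_option autoImplicit false
universe u

open Polynomial

namespace Groth.Agent.Stein6

section Equiv

variable (O F : Type u) [CommRing O] [IsDomain O] [Field F] [Algebra O F] [IsFractionRing O F]

/-- The reduction of a domain is the domain. -/
noncomputable def redEquiv : CAlg2.red O ≃+* O :=
  (Ideal.quotEquivOfEq (nilradical_eq_zero O)).trans (RingEquiv.quotientBot O)

theorem redEquiv_mk (a : O) : redEquiv O (Ideal.Quotient.mk _ a) = a := rfl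

theorem exists_normRed_equiv :
    ∃ E : CAlg2.normRed O ≃+* ↥(integralClosure O F), ∀ a : O,
      E (algebraMap (CAlg2.red O) (CAlg2.normRed O) (Ideal.Quotient.mk _ a)) = algebraMap O _ a := by
  haveI : IsDomain (CAlg2.red O) := (redEquiv O).toMulEquiv.isDomain O
  let e := redEquiv O
  let ψ : FractionRing (CAlg2.red O) ≃+* F := IsFractionRing.ringEquivOfRingEquiv e
  have hψ : ∀ r, ψ (algebraMap (CAlg2.red O) _ r) = algebraMap O F (e r) :=
    fun r => IsFractionRing.ringEquivOfRingEquiv_algebraMap e r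
  have h1 : ∀ x, IsIntegral (CAlg2.red O) x → IsIntegral O (ψ x) := by
    rintro x ⟨P, hP, hPx⟩
    refine ⟨P.map e.toRingHom, hP.map _, ?_⟩
    rw [eval₂_map, show (algebraMap O F).comp e.toRingHom = ψ.toRingHom.comp (algebraMap (CAlg2.red O) _) from
      RingHom.ext fun r => (hψ r).symm]
    exact (hom_eval₂ _ _ ψ.toRingHom _).symm.trans ((congrArg ψ.toRingHom hPx).trans (map_zero _))
  have h2 : ∀ y, IsIntegral O y → IsIntegral (CAlg2.red O) (ψ.symm y) := by
    rintro y ⟨P, hP, hPy⟩
    refine ⟨P.map e.symm.toRingHom, hP.map _, ?_⟩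
    rw [eval₂_map, show (algebraMap (CAlg2.red O) _).comp e.symm.toRingHom = ψ.symm.toRingHom.comp (algebraMap O F) from
      RingHom.ext fun a => ψ.injective (by
        show ψ (algebraMap _ _ (e.symm a)) = ψ (ψ.symm (algebraMap O F a))
        rw [hψ, RingEquiv.apply_symm_apply, RingEquiv.apply_symm_apply])]
    exact (hom_eval₂ _ _ ψ.symm.toRingHom _).symm.trans ((congrArg ψ.symm.toRingHom hPy).trans (map_zero _))
  refine ⟨{ toFun := fun x => ⟨ψ x.1, h1 _ x.2⟩
            invFun := fun y => ⟨ψ.symm y.1, h2 _ y.2⟩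
            left_inv := fun x => Subtype.ext (ψ.symm_apply_apply _)
            right_inv := fun y => Subtype.ext (ψ.apply_symm_apply _)
            map_mul' := fun a b => Subtype.ext (map_mul ψ _ _)
            map_add' := fun a b => Subtype.ext (map_add ψ _ _) }, fun a => Subtype.ext ?_⟩
  show ψ (algebraMap (CAlg2.red O) _ (Ideal.Quotient.mk _ a)) = algebraMap O F a
  rw [hψ]
  exact congrArg _ (redEquiv_mk O a)

theorem isLocalRing_integralClosure [IsLocalRing O] (h : CAlg2.IsUnibranch O) :
    IsLocalRing ↥(integralClosure O F) := by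
  haveI := h.2
  obtain ⟨E, -⟩ := exists_normRed_equiv O F
  exact E.isLocalRing

/-- Some `p`-power of `c` is congruent modulo `m` to an element of the base. -/
def PowMem {O C : Type u} [CommRing O] [CommRing C] [Algebra O C] (m : Ideal C) (c : C) : Prop :=
  (∃ a : O, c - algebraMap O C a ∈ m) ∨
    ∃ p : ℕ, p.Prime ∧ (p : C) ∈ m ∧ ∃ (n : ℕ) (a : O), c ^ p ^ n - algebraMap O C a ∈ m

theorem powMem_integralClosure [IsLocalRing O] (h : CAlg2.IsGeomUnibranch O)
    (m : Ideal ↥(integralClosure O F)) [m.IsMaximal] (c : ↥(integralClosure O F)) : PowMem (O := O) m c := by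
  obtain ⟨E, hE⟩ := exists_normRed_equiv O F
  let m' : Ideal (CAlg2.normRed O) := m.comap E.toRingHom
  haveI : m'.IsMaximal := Ideal.comap_isMaximal_of_surjective E.toRingHom E.surjective
  obtain ⟨n, a, ha⟩ := h.2 m' (Ideal.Quotient.mk m' (E.symm c))
  obtain ⟨p, hp⟩ := ExpChar.exists (CAlg2.normRed O ⧸ m')
  haveI := hp
  rw [ringExpChar.eq _ p, ← map_pow] at ha
  have hmem : E (E.symm c ^ p ^ n) - algebraMap O _ a ∈ m := by
    rw [← hE a, ← map_sub]
    exact (Ideal.Quotient.eq.mp ha.symm : _ ∈ m')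
  rw [map_pow, RingEquiv.apply_symm_apply] at hmem
  rcases hp with _ | ⟨hp'⟩
  · exact Or.inl ⟨a, by rwa [one_pow, pow_one] at hmem⟩
  · refine Or.inr ⟨p, hp', ?_, n, a, hmem⟩
    have : (p : CAlg2.normRed O) ∈ m' := Ideal.Quotient.eq_zero_iff_mem.mp ((map_natCast _ p).trans (CharP.cast_eq_zero _ p))
    have h2 : E.toRingHom (p : CAlg2.normRed O) ∈ m := this
    rwa [map_natCast] at h2

end Equiv

section Extension

variable {O F K : Type u} [CommRing O] [IsLocalRing O] [Field F] [Algebra O F]
  [Field K] [Algebra O K] [Algebra F K] [IsScalarTower O F K]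

theorem algebraic_of_mem (c : ↥(integralClosure O K)) : (c : K) ∈ algebraicClosure F K :=
  mem_algebraicClosure_iff'.2 (c.2.tower_top (A := F))

/-- At most separable-degree many maximal ideals. -/
theorem card_maximalSpectrum_le (hloc : IsLocalRing ↥(integralClosure O F)) {n : ℕ} (hn : 0 < n)
    (hdeg : Field.finSepDegree F ↥(algebraicClosure F K) = n) :
    Finite (MaximalSpectrum ↥(integralClosure O K)) ∧ Nat.card (MaximalSpectrum ↥(integralClosure O K)) ≤ n := by
  classical
  let L := algebraicClosure F K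
  let Ω := AlgebraicClosure F
  let C := integralClosure O K
  haveI : Algebra.IsAlgebraic F L := inferInstance
  have hcard : Nat.card (L →ₐ[F] Ω) = n := by rw [← Field.finSepDegree_eq_of_isAlgClosed]; exact hdeg
  haveI : Finite (L →ₐ[F] Ω) := Nat.finite_of_card_ne_zero (by omega)
  letI := Fintype.ofFinite (L →ₐ[F] Ω)
  let B := integralClosure O Ω
  let toL : ↥C →ₐ[O] L :=
    { toFun := fun c => ⟨c, algebraic_of_mem c⟩
      map_one' := rfl
      map_mul' := fun _ _ => rfl
      map_zero' := rfl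
      map_add' := fun _ _ => rfl
      commutes' := fun a => Subtype.ext rfl }
  have hr : ∀ (σ : L →ₐ[F] Ω) (c : ↥C), σ (toL c) ∈ B := fun σ c => by
    have : IsIntegral O c := (isIntegral_algHom_iff C.val Subtype.val_injective).mp c.2
    exact this.map ((σ.restrictScalars O).comp toL)
  let r : (L →ₐ[F] Ω) → (↥C →+* ↥B) := fun σ =>
    RingHom.codRestrict ((σ.restrictScalars O).comp toL).toRingHom B (hr σ)
  haveI : Nonempty (L →ₐ[F] Ω) := ⟨IsAlgClosed.lift⟩
  obtain ⟨P, hP⟩ := Ideal.exists_maximal ↥B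
  haveI := hP
  let A' := integralClosure O F
  let rA : ↥A' →+* ↥B := RingHom.codRestrict ((algebraMap F Ω).comp A'.val.toRingHom) B fun a =>
    (show IsIntegral O (a : F) from a.2).map (IsScalarTower.toAlgHom O F Ω)
  have hrA : ∀ Q : Ideal ↥B, Q.IsMaximal → Q.comap rA = IsLocalRing.maximalIdeal ↥A' := fun Q hQ => by
    haveI := hQ
    refine IsLocalRing.eq_maximalIdeal (Ideal.isMaximal_comap_of_isIntegral_of_isMaximal' rA ?_ Q)
    intro b
    obtain ⟨f, hf, hfb⟩ := b.2
    refine ⟨f.map (algebraMap O ↥A'), hf.map _, Subtype.ext ?_⟩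
    rw [eval₂_map]
    refine ((hom_eval₂ f _ B.val.toRingHom b).trans ?_)
    refine Eq.trans (congrArg (fun φ => eval₂ φ _ f) (RingHom.ext fun o => ?_)) hfb
    exact (IsScalarTower.algebraMap_apply O F Ω o).symm
  have key : ∀ m : MaximalSpectrum ↥C, ∃ σ : L →ₐ[F] Ω, m.asIdeal = P.comap (r σ) := by
    intro m
    by_contra hne
    push Not at hne
    haveI := m.isMaximal
    haveI hprime : ∀ σ, (P.comap (r σ)).IsPrime := fun σ => Ideal.IsPrime.comap _
    have hnot : ¬ ((m.asIdeal : Set ↥C) ⊆ ⋃ σ ∈ ((Finset.univ : Finset (L →ₐ[F] Ω)) : Set (L →ₐ[F] Ω)), (P.comap (r σ) : Set ↥C)) := by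
      rw [Ideal.subset_union_prime (Classical.arbitrary _) (Classical.arbitrary _) fun σ _ _ _ => hprime σ]
      rintro ⟨σ, -, hle⟩
      exact hne σ (m.isMaximal.eq_of_le (hprime σ).ne_top hle)
    obtain ⟨c, hcm, hc⟩ := Set.not_subset.mp hnot
    simp only [Finset.coe_univ, Set.mem_univ, Set.iUnion_true, Set.mem_iUnion, not_exists] at hc
    let μ := minpoly F (toL c)
    have hμint : IsIntegral F (toL c) := Algebra.IsIntegral.isIntegral _
    let rts := (μ.map (algebraMap F Ω)).roots
    have hroot : ∀ x ∈ rts, ∃ σ : L →ₐ[F] Ω, σ (toL c) = x := by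
      intro x hx
      refine IntermediateField.exists_algHom_of_splits_of_aeval
        (fun s : L => ⟨Algebra.IsIntegral.isIntegral s, IsAlgClosed.splits _⟩) (?_ : aeval x μ = 0)
      rw [mem_roots', IsRoot.def, eval_map] at hx
      exact hx.2
    have hB : ∀ x ∈ rts, x ∈ B := fun x hx => by
      obtain ⟨σ, rfl⟩ := hroot x hx
      exact hr σ c
    let u : ↥B := (rts.pmap (fun x hx => (⟨x, hx⟩ : ↥B)) hB).prod
    have hu : (u : Ω) = rts.prod := by
      show B.val.toRingHom _ = _
      rw [map_multiset_prod, Multiset.map_pmap]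
      congr 1
      exact (Multiset.pmap_eq_map _ _ _ _).trans (Multiset.map_id _)
    have hmon : (μ.map (algebraMap F Ω)).Monic := (minpoly.monic hμint).map _
    have ha : ∃ a : F, algebraMap F Ω a = rts.prod := by
      refine ⟨(-1) ^ μ.natDegree * μ.coeff 0, ?_⟩
      rw [map_mul, map_pow, map_neg, map_one, ← coeff_map,
        Polynomial.Splits.coeff_zero_eq_prod_roots_of_monic (IsAlgClosed.splits _) hmon, natDegree_map,
        ← mul_assoc, ← pow_add, Even.neg_one_pow ⟨_, rfl⟩, one_mul]
    obtain ⟨a, ha⟩ := ha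
    have haint : IsIntegral O a := by
      have : IsIntegral O (algebraMap F Ω a) := by rw [ha, ← hu]; exact u.2
      exact (isIntegral_algHom_iff (IsScalarTower.toAlgHom O F Ω) (algebraMap F Ω).injective).mp this
    have hau : rA ⟨a, haint⟩ = u := Subtype.ext (ha.trans hu.symm)
    -- a maximal ideal of `B` over `m`
    let σ₀ : L →ₐ[F] Ω := IsAlgClosed.lift
    have hinj : Function.Injective (r σ₀) := fun x y hxy =>
      Subtype.ext (congrArg (fun z : L => (z : K)) (σ₀.injective (congrArg Subtype.val hxy)))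
    have hint0 : (r σ₀).IsIntegral := by
      intro b
      obtain ⟨f, hf, hfb⟩ := b.2
      refine ⟨f.map (algebraMap O ↥C), hf.map _, Subtype.ext ?_⟩
      rw [eval₂_map]
      refine ((hom_eval₂ f _ B.val.toRingHom b).trans ?_)
      refine Eq.trans (congrArg (fun φ => eval₂ φ _ f) (RingHom.ext fun o => ?_)) hfb
      exact ((σ₀.restrictScalars O).comp toL).commutes o
    obtain ⟨P₀, hP₀, hP₀m⟩ : ∃ P₀ : Ideal ↥B, P₀.IsMaximal ∧ P₀.comap (r σ₀) = m.asIdeal := by
      letI := (r σ₀).toAlgebra
      haveI : Algebra.IsIntegral ↥C ↥B := ⟨hint0⟩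
      exact Ideal.exists_ideal_over_maximal_of_isIntegral m.asIdeal (fun x hx => by
        have : r σ₀ x = r σ₀ 0 := (show r σ₀ x = 0 from hx).trans (map_zero _).symm
        rw [hinj this]
        exact m.asIdeal.zero_mem)
    have hmem₀ : σ₀ (toL c) ∈ rts := by
      rw [mem_roots', IsRoot.def, eval_map]
      refine ⟨hmon.ne_zero, ?_⟩
      show aeval (σ₀ (toL c)) μ = 0
      rw [aeval_algHom_apply, minpoly.aeval, map_zero]
    have hu₀ : u ∈ P₀ := by
      refine (Ideal.IsPrime.multiset_prod_mem_iff_exists_mem hP₀.isPrime _).mpr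
        ⟨r σ₀ c, Multiset.mem_pmap.mpr ⟨_, hmem₀, Subtype.ext rfl⟩, ?_⟩
      exact hP₀m.ge hcm
    have huP : u ∈ P := by
      rw [← hau]
      have : (⟨a, haint⟩ : ↥A') ∈ P₀.comap rA := by
        show rA _ ∈ P₀
        rw [hau]; exact hu₀
      rw [hrA P₀ hP₀, ← hrA P hP] at this
      exact this
    obtain ⟨z, hz, hzP⟩ := (Ideal.IsPrime.multiset_prod_mem_iff_exists_mem hP.isPrime _).mp huP
    obtain ⟨x, hx, rfl⟩ := Multiset.mem_pmap.mp hz
    obtain ⟨σ, hσ⟩ := hroot x hx
    refine hc σ ?_
    show r σ c ∈ P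
    rwa [show r σ c = ⟨x, hB x hx⟩ from Subtype.ext hσ]
  choose σ hσ using key
  have hσinj : Function.Injective σ := fun m m' h => MaximalSpectrum.ext (by rw [hσ m, hσ m', h])
  exact ⟨Finite.of_injective σ hσinj, hcard ▸ Nat.card_le_card_of_injective σ hσinj⟩

theorem finSepDegree_algebraicClosure_eq_one
    (hrad : ∀ x : K, IsAlgebraic F x → ∃ n : ℕ, x ^ ringExpChar F ^ n ∈ (algebraMap F K).range) :
    Field.finSepDegree F ↥(algebraicClosure F K) = 1 := by
  rw [← isPurelyInseparable_iff_finSepDegree_eq_one]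
  obtain ⟨q, hq⟩ := ExpChar.exists F
  haveI := hq
  rw [isPurelyInseparable_iff_pow_mem F q]
  intro x
  obtain ⟨n, a, ha⟩ := hrad x (mem_algebraicClosure_iff.mp x.2)
  rw [ringExpChar.eq F q] at ha
  exact ⟨n, a, Subtype.ext ha⟩

/-- Residue extensions over a geometrically unibranch point are purely inseparable. -/
theorem powMem_of_purelyInseparable [IsDomain O] [IsFractionRing O F] (h : CAlg2.IsGeomUnibranch O)
    (hrad : ∀ x : K, IsAlgebraic F x → ∃ n : ℕ, x ^ ringExpChar F ^ n ∈ (algebraMap F K).range)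
    (m : Ideal ↥(integralClosure O K)) [m.IsMaximal] (c : ↥(integralClosure O K)) : PowMem (O := O) m c := by
  obtain ⟨n, x, hx⟩ := hrad (c : K) (mem_algebraicClosure_iff.mp (algebraic_of_mem c))
  have hxint : IsIntegral O x := (isIntegral_algHom_iff (IsScalarTower.toAlgHom O F K) (algebraMap F K).injective).mp
    (show IsIntegral O (algebraMap F K x) by rw [hx]; exact c.2.pow _)
  let i : ↥(integralClosure O F) →+* ↥(integralClosure O K) :=
    RingHom.codRestrict ((algebraMap F K).comp (integralClosure O F).val.toRingHom) (integralClosure O K) fun a =>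
      (show IsIntegral O (a : F) from a.2).map (IsScalarTower.toAlgHom O F K)
  have hio : ∀ o : O, i (algebraMap O _ o) = algebraMap O _ o := fun o =>
    Subtype.ext (IsScalarTower.algebraMap_apply O F K o).symm
  haveI : (m.comap i).IsMaximal := Ideal.isMaximal_comap_of_isIntegral_of_isMaximal' i (by
    intro b
    obtain ⟨f, hf, hfb⟩ := b.2
    refine ⟨f.map (algebraMap O _), hf.map _, Subtype.ext ?_⟩
    rw [eval₂_map]
    refine ((hom_eval₂ f _ (integralClosure O K).val.toRingHom b).trans ?_)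
    refine Eq.trans (congrArg (fun φ => eval₂ φ _ f) (RingHom.ext fun o => congrArg Subtype.val (hio o))) hfb) m
  have hcx : i ⟨x, hxint⟩ = c ^ ringExpChar F ^ n := Subtype.ext hx
  obtain ⟨q, hq⟩ := ExpChar.exists F
  haveI := hq
  rw [ringExpChar.eq F q] at hcx
  rcases powMem_integralClosure O F h (m.comap i) ⟨x, hxint⟩ with ⟨a, ha⟩ | ⟨p, hp, hpm, k, a, ha⟩
  · have ha' : c ^ q ^ n - algebraMap O _ a ∈ m := by
      rw [← hcx, ← hio, ← map_sub]; exact ha
    rcases hq with _ | ⟨hq'⟩
    · exact Or.inl ⟨a, by rwa [one_pow, pow_one] at ha'⟩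
    · refine Or.inr ⟨q, hq', ?_, n, a, ha'⟩
      rw [show (q : ↥(integralClosure O K)) = 0 from Subtype.ext (by
        push_cast
        rw [← map_natCast (algebraMap F K), CharP.cast_eq_zero, map_zero])]
      exact m.zero_mem
  · have hpm' : (p : ↥(integralClosure O K)) ∈ m := by
      have h2 : i (p : ↥(integralClosure O F)) ∈ m := hpm
      rwa [map_natCast] at h2
    have ha' : (c ^ q ^ n) ^ p ^ k - algebraMap O _ a ∈ m := by
      rw [← hcx, ← hio, ← map_pow, ← map_sub]; exact ha
    refine Or.inr ⟨p, hp, hpm', ?_⟩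
    rcases hq with _ | ⟨hq'⟩
    · exact ⟨k, a, by rwa [one_pow, pow_one] at ha'⟩
    · obtain rfl : p = q := by
        by_contra hne
        have hq0 : (q : ↥(integralClosure O K)) = 0 := Subtype.ext (by
          push_cast
          rw [← map_natCast (algebraMap F K), CharP.cast_eq_zero, map_zero])
        obtain ⟨u, v, huv⟩ := Int.isCoprime_iff_nat_coprime.mpr
          (show Nat.Coprime (Int.natAbs p) (Int.natAbs q) by simpa using (Nat.coprime_primes hp hq').mpr hne)
        refine Ideal.IsMaximal.ne_top ‹m.IsMaximal› ((Ideal.eq_top_iff_one m).mpr ?_)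
        have := congrArg (Int.castRingHom ↥(integralClosure O K)) huv
        simp only [map_add, map_mul, map_natCast, hq0, mul_zero, add_zero, map_one] at this
        rw [← this]
        exact m.mul_mem_left _ hpm'
      exact ⟨n + k, a, by rwa [pow_add, pow_mul]⟩

end Extension

end Groth.Agent.Stein6
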