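import Groth.Agent.Lib.Stein6.IntegralBound
import Groth.Agent.Lib.Stein6.Unibranch
import Mathlib

/-! # Fibres of proper morphisms over unibranch points -/

set_option autoImplicit false
universe u
set_option backward.isDefEq.respectTransparency.types false

open CategoryTheory CategoryTheory.Limits AlgebraicGeometry

namespace Groth.Agent.Stein6

variable {X Y : Scheme.{u}} [IsIntegral X] [IsIntegral Y] (f : X ⟶ Y)

theorem surjective_of_specializes [IsProper f] (hdom : f.base (genericPoint X) ⤳ genericPoint Y) :
    Surjective f := by
  refine ⟨fun y => ?_⟩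
  exact (hdom.trans ((genericPoint_spec Y).specializes trivial)).mem_closed f.isClosedMap.isClosed_range ⟨_, rfl⟩

theorem card_connectedComponents_le [IsProper f] (hdom : f.base (genericPoint X) ⤳ genericPoint Y)
    (y : Y) (hy : CAlg2.IsUnibranch (Y.presheaf.stalk y)) {n : ℕ} (hn0 : 0 < n)
    (hn : letI := (CohIII.stalkToFunctionField f (genericPoint Y) hdom).toAlgebra (R := Y.functionField) (S := X.functionField)
      Field.finSepDegree Y.functionField ↥(algebraicClosure Y.functionField X.functionField) = n) :
    Finite (_root_.ConnectedComponents ↥(f.fiber y)) ∧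
      Nat.card (_root_.ConnectedComponents ↥(f.fiber y)) ≤ n := by
  have hη : genericPoint Y ⤳ y := (genericPoint_spec Y).specializes trivial
  let h : f.base (genericPoint X) ⤳ y := hdom.trans hη
  letI : Algebra Y.functionField X.functionField :=
    (CohIII.stalkToFunctionField f (genericPoint Y) hdom).toAlgebra (R := Y.functionField) (S := X.functionField)
  letI : Algebra (Y.presheaf.stalk y) X.functionField := (CohIII.stalkToFunctionField f y h).toAlgebra
  haveI : IsScalarTower (Y.presheaf.stalk y) Y.functionField X.functionField := IsScalarTower.of_algebraMap_eq' (by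
    show CohIII.stalkToFunctionField f y h = (CohIII.stalkToFunctionField f (genericPoint Y) hdom).comp
      (Y.presheaf.stalkSpecializes hη).hom
    rw [CohIII.stalkToFunctionField, CohIII.stalkToFunctionField, RingHom.comp_assoc]
    congr 1
    rw [← CommRingCat.hom_comp, TopCat.Presheaf.stalkSpecializes_comp])
  obtain ⟨hfin, hcard⟩ := card_maximalSpectrum_le (O := Y.presheaf.stalk y) (F := Y.functionField)
    (K := X.functionField) (isLocalRing_integralClosure _ _ hy) hn0 hn
  have hle := mk_connectedComponents_fiber_le f y h
  change Cardinal.mk _ ≤ Cardinal.mk (MaximalSpectrum ↥(integralClosure (Y.presheaf.stalk y) X.functionField)) at hle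
  haveI := hfin
  have hlt := Cardinal.lt_aleph0_of_finite (MaximalSpectrum ↥(integralClosure (Y.presheaf.stalk y) X.functionField))
  haveI : Finite (_root_.ConnectedComponents ↥(f.fiber y)) :=
    Cardinal.lt_aleph0_iff_finite.mp (hle.trans_lt hlt)
  exact ⟨inferInstance, (Cardinal.toNat_le_toNat hle hlt).trans hcard⟩

theorem connectedSpace_fiber [IsProper f] (hdom : f.base (genericPoint X) ⤳ genericPoint Y)
    (hrad : ∀ x : X.functionField,
      (∃ q : Polynomial Y.functionField, q ≠ 0 ∧
        Polynomial.eval₂ (CohIII.stalkToFunctionField f (genericPoint Y) hdom) x q = 0) →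
      ∃ e : ℕ, x ^ (ringExpChar X.functionField ^ e) ∈
        Set.range (CohIII.stalkToFunctionField f (genericPoint Y) hdom))
    (y : Y) (hy : CAlg2.IsUnibranch (Y.presheaf.stalk y)) : ConnectedSpace ↥(f.fiber y) := by
  letI : Algebra Y.functionField X.functionField :=
    (CohIII.stalkToFunctionField f (genericPoint Y) hdom).toAlgebra (R := Y.functionField) (S := X.functionField)
  obtain ⟨q, hq⟩ := ExpChar.exists Y.functionField
  haveI := hq
  haveI : ExpChar X.functionField q := expChar_of_injective_algebraMap (algebraMap Y.functionField X.functionField).injective q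
  obtain ⟨hfin, hcard⟩ := card_connectedComponents_le f hdom y hy Nat.one_pos
    (finSepDegree_algebraicClosure_eq_one fun x ⟨P, hP0, hP⟩ => by
      obtain ⟨e, a, ha⟩ := hrad x ⟨P, hP0, hP⟩
      rw [ringExpChar.eq X.functionField q] at ha
      exact ⟨e, by rw [ringExpChar.eq Y.functionField q]; exact ⟨a, ha⟩⟩)
  haveI := hfin
  haveI : Subsingleton (_root_.ConnectedComponents ↥(f.fiber y)) := Finite.card_le_one_iff_subsingleton.mp hcard
  haveI : Surjective f := surjective_of_specializes f hdom
  haveI : Nonempty ↥(f.fiber y) := by
    obtain ⟨x, hx⟩ := f.surjective y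
    obtain ⟨z, -⟩ := (f.range_fiberι y).ge hx
    exact ⟨z⟩
  haveI : PreconnectedSpace ↥(f.fiber y) := preconnectedSpace_iff_connectedComponent.mpr fun x =>
    Set.eq_univ_of_forall fun z => ConnectedComponents.coe_eq_coe'.mp (Subsingleton.elim _ _)
  exact ⟨inferInstance⟩

end Groth.Agent.Stein6
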