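import Groth.Agent.Lib.Stein6.Fibres
import Groth.Agent.Lib.HensProper6.General
import Groth.Agent.Lib.RigidRel.Const
import Groth.Agent.Lib.RigidRel.H0
import Mathlib

/-! # Stein factorization over a strictly henselian Noetherian local ring, reduced closed fibre -/

set_option autoImplicit false
universe u
set_option backward.isDefEq.respectTransparency.types false

open CategoryTheory CategoryTheory.Limits AlgebraicGeometry IsLocalRing

namespace Groth.Agent.Stein6

theorem geometricallyReduced_openImmersion_comp {U X S : Scheme.{u}} (i : U ⟶ X) [IsOpenImmersion i]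
    (f : X ⟶ S) [GeometricallyReduced f] : GeometricallyReduced (i ≫ f) := by
  refine ⟨geometrically_iff_of_isClosedUnderIsomorphisms.mpr fun K _ y => ?_⟩
  haveI : IsReduced (pullback f y) :=
    GeometricallyReduced.geometrically_isReduced _ _ _ (IsPullback.of_hasPullback f y)
  haveI : IsReduced (pullback i (pullback.fst f y)) := isReduced_of_isOpenImmersion (pullback.snd i (pullback.fst f y))
  exact isReduced_of_isOpenImmersion (pullbackRightPullbackFstIso f y i).inv

theorem isIso_of_bijective_appTop {U V : Scheme.{u}} [IsAffine U] [IsAffine V] (g : U ⟶ V)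
    (hg : Function.Bijective g.appTop.hom) : IsIso g := by
  haveI : IsIso g.appTop := (ConcreteCategory.isIso_iff_bijective _).mpr hg
  have h := Scheme.isoSpec_hom_naturality g
  rw [show g = U.isoSpec.hom ≫ Spec.map g.appTop ≫ V.isoSpec.inv by rw [reassoc_of% h, Iso.hom_inv_id, Category.comp_id]]
  infer_instance

theorem etale_of_strictlyHenselian {R : Type u} [CommRing R] [HenselianLocalRing R] [IsNoetherianRing R]
    [IsSepClosed (ResidueField R)] {X Y : Scheme.{u}} (f : X ⟶ Spec (CommRingCat.of R)) [IsProper f] [Flat f]
    [GeometricallyReduced (pullback.snd f (RigidRel.quotBase (R := CommRingCat.of R) (maximalIdeal R)))]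
    (q : X ⟶ Y) (h : Y ⟶ Spec (CommRingCat.of R)) (w : q ≫ h = f) [IsFinite h] [IsProper q]
    [GeometricallyConnected q] (hq : ∀ U : Y.Opens, Function.Bijective (q.app U)) : Etale h := by
  haveI : IsLocalRing (CommRingCat.of R) := inferInstanceAs (IsLocalRing R)
  haveI : IsNoetherianRing (CommRingCat.of R) := ‹IsNoetherianRing R›
  haveI : IsAffine Y := isAffine_of_isAffineHom h
  let c : Spec (CommRingCat.of R) := closedPoint R
  have hcl : IsClosed (h ⁻¹' {c}) := (isClosed_singleton_closedPoint R).preimage h.continuous
  have hfin : (h ⁻¹' {c}).Finite := h.finite_preimage_singleton c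
  have hpt : ∀ y ∈ h ⁻¹' {c}, IsClosed ({y} : Set Y) := fun y hy => by
    haveI := totallyDisconnectedSpace_fiber h c
    haveI : T1Space ↥(h ⁻¹' {c}) := (h.fiberHomeo c).t1Space
    have := hcl.isClosedEmbedding_subtypeVal.isClosedMap _ (isClosed_singleton (x := (⟨y, hy⟩ : ↥(h ⁻¹' {c}))))
    rwa [Set.image_singleton] at this
  have hz0 : PrimeSpectrum.zeroLocus (maximalIdeal R : Set R) = {c} := by
    ext p
    constructor
    · intro hp
      exact PrimeSpectrum.ext ((maximalIdeal.isMaximal R).eq_of_le p.isPrime.ne_top hp).symm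
    · rintro rfl
      exact le_refl (maximalIdeal R)
  choose W hW hzW hWQ using fun z : ↥(h ⁻¹' {c}) => HensProper6.exists_isClopen
    (Hens.henselianRing_maximalIdeal R) h (P := {z.1}) (Q := (h ⁻¹' {c}) \ {z.1}) (hpt z.1 z.2)
    (Set.biUnion_of_singleton ((h ⁻¹' {c}) \ {z.1}) ▸
      (hfin.sdiff).isClosed_biUnion fun y hy => hpt y hy.1)
    (Set.disjoint_singleton_left.mpr fun hz => hz.2 rfl)
    (by rw [hz0, Set.union_sdiff_self]; exact Set.union_eq_right.mpr (Set.singleton_subset_iff.mpr z.2))
  let O : ↥(h ⁻¹' {c}) → Y.Opens := fun z => ⟨W z, (hW z).2⟩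
  have hcov : iSup O = ⊤ := by
    rw [eq_top_iff]
    intro y _
    obtain ⟨y', hy', hy''⟩ : ∃ y', y ⤳ y' ∧ h y' = c := by
      have : c ∈ h '' closure {y} :=
        (IsLocalRing.specializes_closedPoint (R := R) (h y)).mem_closed (h.isClosedMap _ isClosed_closure)
          ⟨y, subset_closure rfl, rfl⟩
      obtain ⟨y', hy', hy''⟩ := this
      exact ⟨y', specializes_iff_mem_closure.mpr hy', hy''⟩
    refine TopologicalSpace.Opens.mem_iSup.mpr ⟨⟨y', hy''⟩, hy'.mem_open (hW _).2 (hzW _ rfl)⟩
  have hiso : ∀ z, IsIso ((O z).ι ≫ h) := by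
    intro z
    haveI : IsClosedImmersion (O z).ι :=
      IsClosedImmersion.of_isPreimmersion _ (by rw [Scheme.Opens.range_ι]; exact (hW z).1)
    haveI : IsAffine (O z : Scheme.{u}) := isAffine_of_isAffineHom (O z).ι
    let P : X.Opens := q ⁻¹ᵁ O z
    haveI : IsClosedImmersion P.ι := IsClosedImmersion.of_isPreimmersion _ (by
      rw [Scheme.Opens.range_ι]; exact (hW z).1.preimage q.continuous)
    let ψ := P.ι ≫ f
    haveI : IsProper ψ := inferInstance
    haveI : Flat ψ := inferInstance
    have hcP : f ⁻¹' {c} ∩ (P : Set X) = q ⁻¹' {z.1} := by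
      ext x
      have hfx : f x = h (q x) := by rw [← w, Scheme.Hom.comp_apply]
      constructor
      · rintro ⟨hx, hxP⟩
        by_contra hne
        exact Set.disjoint_left.mp (hWQ z) hxP ⟨(hfx.symm.trans hx : h (q x) = c), hne⟩
      · intro hx
        have hx' : q x = z.1 := hx
        refine ⟨?_, show q x ∈ W z from hx' ▸ hzW z rfl⟩
        show f x = c
        rw [hfx, hx']
        exact z.2
    haveI : Surjective ψ := by
      haveI : LocallyOfFinitePresentation ψ :=
        (LocallyOfFinitePresentation.iff_locallyOfFiniteType).mpr inferInstance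
      haveI : UniversallyOpen ψ := inferInstance
      obtain ⟨x, hx⟩ := (q.isConnected_preimage_singleton z.1).nonempty
      have hx' := hcP.ge hx
      refine ⟨fun p => ?_⟩
      have hmem : c ∈ Set.range ψ := ⟨⟨x, hx'.2⟩, hx'.1⟩
      exact (IsLocalRing.specializes_closedPoint (R := R) p).mem_open ψ.isOpenMap.isOpen_range hmem
    let r := RigidRel.quotBase (R := CommRingCat.of R) (maximalIdeal R)
    have hsurj : Function.Surjective (pullback.snd ψ r).appTop.hom := by
      haveI : IsClosedImmersion r := IsClosedImmersion.spec_of_surjective _ Ideal.Quotient.mk_surjective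
      have hrange : Set.range r = {c} := by
        ext p
        constructor
        · rintro ⟨y, rfl⟩
          refine PrimeSpectrum.ext ?_
          show Ideal.comap (residue R) (show PrimeSpectrum (ResidueField R) from y).asIdeal = maximalIdeal R
          rw [(IsSimpleOrder.eq_bot_or_eq_top (show PrimeSpectrum (ResidueField R) from y).asIdeal).resolve_right
            (show PrimeSpectrum (ResidueField R) from y).isPrime.ne_top, ← RingHom.ker_eq_comap_bot]
          exact IsLocalRing.ker_residue
        · rintro rfl
          refine ⟨closedPoint (ResidueField R), PrimeSpectrum.ext ?_⟩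
          show Ideal.comap (residue R) (maximalIdeal (ResidueField R)) = maximalIdeal R
          rw [maximalIdeal_eq_bot, ← RingHom.ker_eq_comap_bot]
          exact IsLocalRing.ker_residue
      haveI : ConnectedSpace ↥(pullback ψ r) := by
        have h1 : P.ι '' Set.range (pullback.fst ψ r) = q ⁻¹' {z.1} := by
          rw [Scheme.Pullback.range_fst, hrange, show ψ ⁻¹' {c} = P.ι ⁻¹' (f ⁻¹' {c}) from rfl,
            Set.image_preimage_eq_inter_range, Scheme.Opens.range_ι, hcP]
        have h2 := q.isConnected_preimage_singleton z.1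
        rw [← h1, ← Set.range_comp] at h2
        refine connectedSpace_iff_univ.mpr ⟨?_,
          (P.ι.isEmbedding.comp (pullback.fst ψ r).isEmbedding).isInducing.isPreconnected_image.mp ?_⟩
        · obtain ⟨_, ⟨v, rfl⟩⟩ := h2.nonempty
          exact ⟨v, trivial⟩
        · rw [Set.image_univ]; exact h2.isPreconnected
      haveI : GeometricallyReduced (pullback.snd ψ r) := by
        rw [show pullback.snd ψ r = (pullbackRightPullbackFstIso f r P.ι).inv ≫
          pullback.snd P.ι (pullback.fst f r) ≫ pullback.snd f r by
            rw [← pullbackRightPullbackFstIso_hom_snd, Iso.inv_hom_id_assoc]]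
        rw [← Category.assoc]
        exact geometricallyReduced_openImmersion_comp _ _
      haveI : GeometricallyConnected (pullback.snd ψ r) :=
        @GeomIrr.geometricallyConnected_of_isSepClosed (ResidueField R) _ _ _ (pullback.snd ψ r) ‹_›
      let g : pullback ψ r ⟶ Spec (CommRingCat.of (ResidueField R)) := pullback.snd ψ r
      haveI : IsProper g := inferInstanceAs (IsProper (pullback.snd ψ r))
      haveI : GeometricallyConnected g := ‹GeometricallyConnected (pullback.snd ψ r)›
      haveI : GeometricallyReduced g := ‹GeometricallyReduced (pullback.snd ψ r)›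
      exact RigidRel.surjective_appTop g
    have hb : Function.Bijective (RigidRel.ringMap ψ ⊤).hom :=
      ⟨RigidRel.injective_ringMap ψ, RigidRel.surjective_ringMap_of_isLocalRing ψ hsurj⟩
    rw [RigidRel.ringMap_top, CommRingCat.hom_comp] at hb
    have hb' : Function.Bijective ψ.appTop.hom :=
      (Function.Bijective.of_comp_iff _ (Scheme.ΓSpecIso (CommRingCat.of R)).symm.commRingCatIsoToRingEquiv.bijective).mp hb
    have hfac : ψ = (q ∣_ O z) ≫ ((O z).ι ≫ h) := by
      rw [← Category.assoc, morphismRestrict_ι, Category.assoc, w]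
    have hres : Function.Bijective (q ∣_ O z).appTop.hom := by
      rw [morphismRestrict_appTop]
      have : Function.Bijective (q.app ((O z).ι ''ᵁ ⊤) ≫ X.presheaf.map
          (eqToHom (image_morphismRestrict_preimage q (O z) ⊤)).op).hom :=
        (ConcreteCategory.bijective_of_isIso (X.presheaf.map _)).comp (hq _)
      exact this
    refine isIso_of_bijective_appTop _ ?_
    rw [hfac, Scheme.Hom.comp_appTop, CommRingCat.hom_comp] at hb'
    exact (Function.Bijective.of_comp_iff' hres _).mp hb'
  rw [IsZariskiLocalAtSource.iff_of_openCover (P := @Etale) (Y.openCoverOfIsOpenCover O hcov)]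
  intro z
  haveI := hiso z
  show Etale ((O z).ι ≫ h)
  infer_instance

end Groth.Agent.Stein6
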