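import Groth.Agent.Lib.Stein6.Spread
import Groth.Agent.Lib.GeomSpread4.Count
import Groth.Agent.Lib.FlatH4.NoethApprox
import Mathlib

/-! # Noetherian approximation keeping fibrewise properties -/

set_option autoImplicit false
universe u
set_option backward.isDefEq.respectTransparency.types false

open CategoryTheory CategoryTheory.Limits AlgebraicGeometry TopologicalSpace Topology

namespace Groth.Agent.Stein6

/-- A finite type stage of `R → A` whose spectrum avoids a constructible set avoided by `Spec A`. -/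
theorem exists_stage_avoid {R A : Type u} [CommRing R] [CommRing A] (φ : R →+* A) (hR : Algebra.FiniteType ℤ R)
    {E : Set (PrimeSpectrum R)} (hE : IsConstructible E) (h : ∀ p, PrimeSpectrum.comap φ p ∈ E) :
    ∃ (R' : Subalgebra ℤ A) (ψ : R →+* R'), R'.FG ∧ R'.val.toRingHom.comp ψ = φ ∧
      ∀ q, PrimeSpectrum.comap ψ q ∈ E := by
  classical
  obtain ⟨S, hS⟩ := PrimeSpectrum.exists_constructibleSetData_iff.mpr hE.compl
  obtain ⟨gens, hgens⟩ := hR.out
  have key : ∀ C : {C // C ∈ S}, ∃ (n : ℕ) (a : Fin C.1.n → A), φ C.1.f ^ n = ∑ j, a j * φ (C.1.g j) := by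
    intro C
    have hmem : φ C.1.f ∈ (Ideal.span (Set.range (φ ∘ C.1.g))).radical := by
      rw [Ideal.radical_eq_sInf, Submodule.mem_sInf]
      rintro p ⟨hle, hp⟩
      by_contra hf
      have hin : PrimeSpectrum.comap φ ⟨p, hp⟩ ∈ S.toSet := by
        rw [PrimeSpectrum.ConstructibleSetData.toSet, Set.mem_iUnion₂]
        refine ⟨C.1, C.2, ?_, fun hz => hf (hz rfl)⟩
        rintro _ ⟨j, rfl⟩
        exact hle (Ideal.subset_span ⟨j, rfl⟩)
      rw [hS] at hin
      exact hin (h _)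
    obtain ⟨n, hn⟩ := hmem
    obtain ⟨a, ha⟩ := Ideal.mem_span_range_iff_exists_fun.1 hn
    exact ⟨n, a, ha.symm⟩
  choose n a ha using key
  let T : Finset A := gens.image φ ∪ Finset.univ.biUnion fun C : {C // C ∈ S} => Finset.univ.image (a C)
  let R' : Subalgebra ℤ A := Algebra.adjoin ℤ (T : Set A)
  have hφ : ∀ r, φ r ∈ R' := fun r => by
    have hr : r ∈ Algebra.adjoin ℤ (gens : Set R) := hgens ▸ trivial
    induction hr using Algebra.adjoin_induction with
    | mem x hx => exact Algebra.subset_adjoin (Finset.mem_union_left _ (Finset.mem_image_of_mem _ hx))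
    | algebraMap m => simp
    | add x y _ _ hx hy => rw [map_add]; exact add_mem hx hy
    | mul x y _ _ hx hy => rw [map_mul]; exact mul_mem hx hy
  let ψ : R →+* R' := φ.codRestrict R' hφ
  refine ⟨R', ψ, ⟨T, rfl⟩, RingHom.ext fun r => rfl, fun q => ?_⟩
  by_contra hq
  rw [← Set.mem_compl_iff, ← hS, PrimeSpectrum.ConstructibleSetData.toSet, Set.mem_iUnion₂] at hq
  obtain ⟨C, hC, hg, hf⟩ := hq
  have haR : ∀ j, a ⟨C, hC⟩ j ∈ R' := fun j => Algebra.subset_adjoin (Finset.mem_union_right _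
    (Finset.mem_biUnion.2 ⟨⟨C, hC⟩, Finset.mem_univ _, Finset.mem_image_of_mem _ (Finset.mem_univ j)⟩))
  have heq : ψ C.f ^ n ⟨C, hC⟩ = ∑ j, (⟨a ⟨C, hC⟩ j, haR j⟩ : R') * ψ (C.g j) := by
    refine Subtype.ext ?_
    rw [SubmonoidClass.coe_pow, AddSubmonoidClass.coe_finsetSum]
    exact ha ⟨C, hC⟩
  refine hf ?_
  rw [PrimeSpectrum.mem_zeroLocus, Set.singleton_subset_iff]
  refine q.isPrime.mem_of_pow_mem (n ⟨C, hC⟩) ?_
  rw [heq]
  exact sum_mem fun j _ => q.asIdeal.mul_mem_left _ (hg ⟨j, rfl⟩)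

/-- Noetherian approximation keeping a property of all fibres. -/
theorem exists_approx_fibres (Q : ∀ {X Y : Scheme.{u}}, (X ⟶ Y) → Y → Prop)
    (hbc : ∀ {X Y X' Y' : Scheme.{u}} {f : X ⟶ Y} {f' : X' ⟶ Y'} {g' : X' ⟶ X} {g : Y' ⟶ Y},
      IsPullback g' f' f g → ∀ y', (Q f' y' ↔ Q f (g y')))
    (hcons : ∀ {X Y : Scheme.{u}} (f : X ⟶ Y) [LocallyOfFinitePresentation f] [QuasiCompact f] [QuasiSeparated f],
      IsLocallyConstructible {y : Y | Q f y})
    {X S : Scheme.{u}} (f : X ⟶ S) [IsAffine X] [IsAffine S] [LocallyOfFinitePresentation f] (h : ∀ y, Q f y) :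
    ∃ (X₀ S₀ : Scheme.{u}) (f₀ : X₀ ⟶ S₀) (g : S ⟶ S₀) (g' : X ⟶ X₀), IsAffine X₀ ∧ IsAffine S₀ ∧ IsPullback g' f f₀ g ∧
      Algebra.FiniteType ℤ Γ(S₀, ⊤) ∧ LocallyOfFiniteType f₀ ∧ ∀ y, Q f₀ y := by
  algebraize [f.appTop.hom]
  have : Algebra.FinitePresentation Γ(S, ⊤) Γ(X, ⊤) :=
    (HasRingHomProperty.iff_of_isAffine (P := @LocallyOfFinitePresentation)).1 ‹_›
  obtain ⟨R, B₀, _, _, _, _, hR, hB₀, ⟨e⟩⟩ := FlatH4.exists_approx Γ(S, ⊤) Γ(X, ⊤)
  obtain ⟨g₁', hg₁⟩ := FlatH4.isPullback_of_affine f e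
  let f₁ := Spec.map (CommRingCat.ofHom (algebraMap R B₀))
  haveI : LocallyOfFinitePresentation f₁ :=
    (HasRingHomProperty.Spec_iff (P := @LocallyOfFinitePresentation)).mpr (RingHom.finitePresentation_algebraMap.mpr hB₀)
  have hE : IsConstructible {p : Spec (CommRingCat.of R) | Q f₁ p} := (hcons f₁).isConstructible
  obtain ⟨R', ψ, hR', hψ, hq⟩ := exists_stage_avoid (algebraMap R Γ(S, ⊤)) hR
    (E := {p : Spec (CommRingCat.of R) | Q f₁ p}) hE (fun p => by
      have h2 := (hbc hg₁ (S.isoSpec.inv p)).1 (h _)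
      rw [← Scheme.Hom.comp_apply, Iso.inv_hom_id_assoc] at h2
      exact h2)
  let t : Spec (CommRingCat.of R') ⟶ Spec (CommRingCat.of R) := Spec.map (CommRingCat.ofHom ψ)
  let a : S ⟶ Spec (CommRingCat.of R') := S.isoSpec.hom ≫ Spec.map (CommRingCat.ofHom R'.val.toRingHom)
  have hat : a ≫ t = S.isoSpec.hom ≫ Spec.map (CommRingCat.ofHom (algebraMap R Γ(S, ⊤))) := by
    simp only [a, t, Category.assoc, ← Spec.map_comp, ← CommRingCat.ofHom_comp, hψ]
  let g' : X ⟶ pullback f₁ t := pullback.lift g₁' (f ≫ a) (by rw [Category.assoc, hat, hg₁.w])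
  have hsq : IsPullback g' f (pullback.snd f₁ t) a :=
    IsPullback.of_right (by rw [pullback.lift_fst, hat]; exact hg₁) (pullback.lift_snd _ _ _)
      (IsPullback.of_hasPullback f₁ t)
  refine ⟨pullback f₁ t, Spec (CommRingCat.of R'), pullback.snd f₁ t, a, g', inferInstance, inferInstance, hsq, ?_,
    inferInstance, fun y => (hbc (IsPullback.of_hasPullback f₁ t) y).2 (hq y)⟩
  haveI : Algebra.FiniteType ℤ R' := (Subalgebra.fg_iff_finiteType _).1 hR'
  exact this.equiv (Scheme.ΓSpecIso (CommRingCat.of R')).symm.commRingCatIsoToRingEquiv.toIntAlgEquiv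

end Groth.Agent.Stein6
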