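import Groth.Agent.Lib.Stein6.Core
import Groth.Agent.Lib.VarDim.Normal
import Groth.Agent.Lib.RigidRel.H0Geom
import Groth.Prelude.Def_Pi1
import Mathlib

/-! # Trivial pushforward over a normal base -/

set_option autoImplicit false
universe u
set_option backward.isDefEq.respectTransparency.types false

open CategoryTheory CategoryTheory.Limits AlgebraicGeometry

namespace Groth.Agent.Stein6

theorem bijective_app_of_normal {X S : Scheme.{u}} (f : X ⟶ S) [IsProper f] [IsIntegral S]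
    (hS : Pi1.IsNormalScheme S) [IsReduced X]
    (hgen : ∀ Z ∈ irreducibleComponents ↥X, ∀ x : X, IsGenericPoint x Z → f x = genericPoint ↥S)
    (h0 : Function.Bijective ((f.fiberToSpecResidueField (genericPoint ↥S)).appTop))
    (V : S.Opens) (hV : IsAffineOpen V) : Function.Bijective (f.app V).hom := by
  let η := genericPoint ↥S
  by_cases hne : Nonempty V
  swap
  · have hVb : ∀ y : S, y ∉ V := fun y hy => hne ⟨⟨y, hy⟩⟩
    have h1 : Subsingleton Γ(S, V) := by
      rw [show V = ⊥ from eq_bot_iff.mpr fun y hy => (hVb y hy).elim]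
      infer_instance
    have h2 : Subsingleton Γ(X, f ⁻¹ᵁ V) := by
      rw [show f ⁻¹ᵁ V = ⊥ from eq_bot_iff.mpr fun y hy => (hVb _ hy).elim]
      infer_instance
    exact ⟨fun a b _ => Subsingleton.elim _ _, fun b => ⟨0, Subsingleton.elim _ _⟩⟩
  haveI := hne
  have hηV : η ∈ V := ((genericPoint_spec ↥S).specializes trivial).mem_open V.2 hne.some.2
  let κ := S.residueField η
  let G := Γ(Spec κ, ⊤)
  let ψ : Γ(S, V) ⟶ G := S.presheaf.germ V η hηV ≫ S.residue η ≫ (Scheme.ΓSpecIso κ).inv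
  have hres : Function.Bijective (S.residue η).hom := by
    refine ⟨?_, Ideal.Quotient.mk_surjective⟩
    letI : Field (S.presheaf.stalk η) := inferInstanceAs (Field S.functionField)
    exact (S.residue η).hom.injective
  have hiso : Function.Bijective ((S.residue η ≫ (Scheme.ΓSpecIso κ).inv).hom) :=
    ((Scheme.ΓSpecIso κ).symm.commRingCatIsoToRingEquiv.bijective).comp hres
  have hψinj : Function.Injective ψ.hom :=
    hiso.1.comp (germ_injective_of_isIntegral (X := S) (U := V) η hηV)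
  let p := f.fiberToSpecResidueField η
  let ι := f.fiberι η
  have hp : ⊤ ≤ (ι ≫ f) ⁻¹ᵁ V := fun z _ => by
    show (ι ≫ f) z ∈ V
    rw [Scheme.Hom.comp_apply, show f (ι z) = η from (f.range_fiberι η).le ⟨z, rfl⟩]
    exact hηV
  have hιV : ⊤ ≤ ι ⁻¹ᵁ (f ⁻¹ᵁ V) := hp
  have hcomm : f.app V ≫ ι.appLE (f ⁻¹ᵁ V) ⊤ hιV = ψ ≫ p.appTop := by
    have hw : ι ≫ f = p ≫ S.fromSpecResidueField η := pullback.condition
    have h1 : (ι ≫ f).appLE V ⊤ hp = f.app V ≫ ι.appLE (f ⁻¹ᵁ V) ⊤ hιV := by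
      rw [Scheme.Hom.app_eq_appLE, Scheme.Hom.appLE_comp_appLE]
    have hle : ⊤ ≤ (S.fromSpecResidueField η) ⁻¹ᵁ V := fun z _ => by
      show S.fromSpecResidueField η z ∈ V
      rw [Scheme.fromSpecResidueField_apply]; exact hηV
    have h2 : (p ≫ S.fromSpecResidueField η).appLE V ⊤ (hw ▸ hp) =
        (S.fromSpecResidueField η).appLE V ⊤ hle ≫ p.appTop := by
      rw [Scheme.Hom.appTop, Scheme.Hom.app_eq_appLE]
      exact (Scheme.Hom.appLE_comp_appLE _ _ _ _ _ _ _).symm
    have h3 : (S.fromSpecResidueField η).appLE V ⊤ hle = ψ := by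
      simp [ψ, κ, Scheme.fromSpecResidueField, Scheme.Hom.appLE, Scheme.fromSpecStalk_app hηV,
        ← Functor.map_comp]
      exact congrArg _ ((congrArg _ ((Spec (S.residueField η)).presheaf.map_id _)).trans (Category.comp_id _))
    rw [← h1, ← h3, ← h2]
    simp only [hw]
  have hkey : ∀ d : Γ(X, f ⁻¹ᵁ V), ι.appLE (f ⁻¹ᵁ V) ⊤ hιV d = 0 → d = 0 := by
    intro d hd
    rw [← basicOpen_eq_bot_iff, eq_bot_iff]
    intro z hz
    obtain ⟨Z, hZ, hzZ⟩ : ∃ Z ∈ irreducibleComponents ↥X, z ∈ Z :=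
      ⟨irreducibleComponent z, irreducibleComponent_mem_irreducibleComponents z, mem_irreducibleComponent⟩
    obtain ⟨x, hx⟩ := QuasiSober.sober hZ.1 (isClosed_of_mem_irreducibleComponents _ hZ)
    have hxD : x ∈ X.basicOpen d := (hx.specializes hzZ).mem_open (X.basicOpen d).2 hz
    obtain ⟨w, rfl⟩ := (f.range_fiberι η).ge (show x ∈ f ⁻¹' {η} from hgen Z hZ x hx)
    exfalso
    have hw : w ∈ ι ⁻¹ᵁ X.basicOpen d := hxD
    rw [Scheme.preimage_basicOpen] at hw
    have hw' : w ∈ (f.fiber η).basicOpen (ι.appLE (f ⁻¹ᵁ V) ⊤ hιV d) := by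
      rw [Scheme.Hom.appLE, CommRingCat.comp_apply, Scheme.basicOpen_res]
      exact ⟨trivial, hw⟩
    rw [hd, Scheme.basicOpen_zero] at hw'
    exact hw'
  refine ⟨?_, fun b => ?_⟩
  · intro a a' h
    refine hψinj (h0.1 ?_)
    exact (congr($(hcomm).hom a)).symm.trans ((congrArg (ι.appLE (f ⁻¹ᵁ V) ⊤ hιV) h).trans congr($(hcomm).hom a'))
  · obtain ⟨c, hc⟩ := h0.2 (ι.appLE (f ⁻¹ᵁ V) ⊤ hιV b)
    obtain ⟨c', rfl⟩ := hiso.2 c
    haveI : UniversallyClosed (f ∣_ V) := IsZariskiLocalAtTarget.restrict (P := @UniversallyClosed) inferInstance _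
    haveI : IsAffine (V : Scheme.{u}) := hV
    have hint : (f.app V).hom.IsIntegral := by
      have h := isIntegral_appTop_of_universallyClosed (f ∣_ V)
      rw [morphismRestrict_appTop] at h
      have key : ∀ W : S.Opens, W = V → (f.app W).hom.IsIntegral → (f.app V).hom.IsIntegral := by
        rintro _ rfl h; exact h
      refine key _ (Scheme.Opens.ι_image_top _) ?_
      exact (RingHom.isIntegral_respectsIso.cancel_right_isIso (f.app ((V : S.Opens).ι ''ᵁ ⊤))
        (X.presheaf.map (eqToHom (image_morphismRestrict_preimage f V ⊤)).op)).mp h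
    obtain ⟨a, ha⟩ := VarDim.exists_section_of_integral (fun x => (hS x).2) V c' (by
      obtain ⟨P, hP, hPb⟩ := hint b
      refine ⟨P, hP, hiso.1 (h0.1 ?_)⟩
      rw [Polynomial.hom_eval₂, Polynomial.hom_eval₂, map_zero, map_zero]
      have hc' : ((p.appTop.hom).comp ((S.residue η ≫ (Scheme.ΓSpecIso κ).inv).hom.comp (S.germToFunctionField V).hom)) =
          (ι.appLE (f ⁻¹ᵁ V) ⊤ hιV).hom.comp (f.app V).hom := congrArg CommRingCat.Hom.hom hcomm.symm
      refine (congrArg (fun φ => Polynomial.eval₂ φ _ P) hc').trans ?_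
      rw [hc, ← Polynomial.hom_eval₂, hPb, map_zero])
    refine ⟨a, sub_eq_zero.mp (hkey _ ?_)⟩
    rw [map_sub, sub_eq_zero]
    refine (congr($(hcomm).hom a)).trans ?_
    rw [← hc, ← ha]
    rfl

end Groth.Agent.Stein6
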