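import Groth.Agent.Lib.Stein6.Basic
import Groth.Agent.Lib.NormSep24.ZeroDim
import Groth.Agent.Lib.UnivHomeo.Morph
import Groth.Prelude.Def_ega3
import Mathlib

/-! # Fibres of the two maps of the Stein factorization -/

set_option autoImplicit false
universe u

open CategoryTheory CategoryTheory.Limits AlgebraicGeometry

namespace Groth.Agent.Stein6

/-- A scheme integral over a field has closed points only. -/
theorem t1Space_of_isIntegralHom {Y : Scheme.{u}} {K : CommRingCat.{u}} (hK : IsField K)
    (h : Y ⟶ Spec K) [IsIntegralHom h] : T1Space Y := by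
  haveI : IsAffine Y := isAffine_of_isAffineHom h
  let φ : K ⟶ Γ(Y, ⊤) := (Scheme.ΓSpecIso K).inv ≫ h.appTop
  have hφ : φ.hom.IsIntegral := by
    refine RingHom.IsIntegral.trans _ _ ?_ (IsIntegralHom.isIntegral_app (f := h) ⊤ (isAffineOpen_top _))
    exact RingHom.isIntegral_of_surjective _ (Scheme.ΓSpecIso K).symm.commRingCatIsoToRingEquiv.surjective
  haveI : T1Space (PrimeSpectrum Γ(Y, ⊤)) := by
    refine t1Space_iff_specializes_imp_eq.mpr fun {p q} hpq => PrimeSpectrum.ext ?_
    letI := φ.hom.toAlgebra
    haveI : Algebra.IsIntegral K Γ(Y, ⊤) := ⟨hφ⟩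
    haveI := p.isPrime
    haveI hm : p.asIdeal.IsMaximal := Ideal.isMaximal_of_isIntegral_of_isMaximal_comap p.asIdeal (by
      letI := hK.toField
      rw [(IsSimpleOrder.eq_bot_or_eq_top (p.asIdeal.comap (algebraMap K Γ(Y, ⊤)))).resolve_right
        (Ideal.IsPrime.comap (algebraMap K Γ(Y, ⊤))).ne_top]
      exact Ideal.bot_isMaximal)
    exact hm.eq_of_le q.isPrime.ne_top ((PrimeSpectrum.le_iff_specializes p q).mpr hpq)
  haveI : T1Space (Spec Γ(Y, ⊤)) := ‹T1Space (PrimeSpectrum Γ(Y, ⊤))›
  exact Y.isoSpec.hom.homeomorph.symm.t1Space

/-- A scheme integral over a field is totally disconnected. -/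
theorem totallyDisconnectedSpace_of_isIntegralHom {Y : Scheme.{u}} {K : CommRingCat.{u}} (hK : IsField K)
    (h : Y ⟶ Spec K) [IsIntegralHom h] : TotallyDisconnectedSpace Y := by
  haveI := t1Space_of_isIntegralHom hK h
  haveI : IsAffine Y := isAffine_of_isAffineHom h
  haveI := NormSep24.t2Space_of_isAffine Y
  haveI : TotallySeparatedSpace Y := inferInstance
  infer_instance

theorem isField_residueField {S : Scheme.{u}} (s : S) : IsField (S.residueField s) :=
  Field.toIsField _

theorem totallyDisconnectedSpace_fiber {Y S : Scheme.{u}} (h : Y ⟶ S) [IsIntegralHom h] (s : S) :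
    TotallyDisconnectedSpace (h.fiber s) := by
  haveI : IsIntegralHom (h.fiberToSpecResidueField s) := inferInstanceAs (IsIntegralHom (pullback.snd _ _))
  exact totallyDisconnectedSpace_of_isIntegralHom (isField_residueField s) (h.fiberToSpecResidueField s)

/-- An integral morphism under a geometrically connected surjection is universally injective. -/
theorem universallyInjective_of_geometricallyConnected {X Y S : Scheme.{u}} (g : X ⟶ Y) [Surjective g]
    (h : Y ⟶ S) [IsIntegralHom h] [GeometricallyConnected (g ≫ h)] : UniversallyInjective h := by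
  have key : ∀ {K : Type u} [Field K] (y : Spec (CommRingCat.of K) ⟶ S), Subsingleton ↥(pullback h y) := by
    intro K _ y
    haveI : TotallyDisconnectedSpace ↥(pullback h y) :=
      totallyDisconnectedSpace_of_isIntegralHom (Field.toIsField K) (pullback.snd h y)
    let p : pullback (g ≫ h) y ⟶ pullback h y :=
      pullback.map (g ≫ h) y h y g (𝟙 _) (𝟙 _) (by simp) (by simp)
    haveI : Surjective p := by
      have hp : IsPullback (pullback.fst (g ≫ h) y) p g (pullback.fst h y) :=
        IsPullback.of_bot (by
          rw [show p ≫ pullback.snd h y = pullback.snd (g ≫ h) y from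
            (pullback.lift_snd _ _ _).trans (Category.comp_id _)]
          exact IsPullback.of_hasPullback (g ≫ h) y)
          (pullback.lift_fst _ _ _).symm (IsPullback.of_hasPullback h y)
      exact MorphismProperty.of_isPullback hp ‹Surjective g›
    haveI : ConnectedSpace ↥(pullback (g ≫ h) y) :=
      GeometricallyConnected.geometrically_connectedSpace _ _ _ (.of_hasPullback _ _)
    haveI : ConnectedSpace ↥(pullback h y) := p.surjective.connectedSpace p.continuous
    exact ⟨fun a b => isPreconnected_univ.subsingleton trivial trivial⟩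
  refine ⟨fun {P T} i₁ i₂ q hq => ?_⟩
  intro a b hab
  let τ := q a
  let w : Spec (CommRingCat.of (T.residueField τ)) ⟶ S := T.fromSpecResidueField τ ≫ i₂
  haveI := key w
  have hq' : IsPullback (pullback.fst q (T.fromSpecResidueField τ) ≫ i₁) (pullback.snd q (T.fromSpecResidueField τ)) h w :=
    (IsPullback.of_hasPullback q (T.fromSpecResidueField τ)).paste_horiz hq.flip
  haveI : Subsingleton ↥(pullback q (T.fromSpecResidueField τ)) :=
    hq'.isoPullback.hom.homeomorph.injective.subsingleton
  have hr : Set.range (pullback.fst q (T.fromSpecResidueField τ)) = q ⁻¹' {τ} := by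
    rw [Scheme.Pullback.range_fst, Scheme.range_fromSpecResidueField]
  obtain ⟨a', ha⟩ := hr.ge (show a ∈ q ⁻¹' {τ} from rfl)
  obtain ⟨b', hb⟩ := hr.ge (show b ∈ q ⁻¹' {τ} from hab.symm)
  rw [← ha, ← hb, Subsingleton.elim a' b']

variable {X Y : Scheme.{u}} (f : X ⟶ Y)

instance surjective_toNormalization [IsProper f] : Surjective f.toNormalization := inferInstance

theorem fiberMapOver_fiberι {X' : Scheme.{u}} (g : X ⟶ X') (h : X' ⟶ Y) (w : g ≫ h = f) (y : Y) :
    CohIII.fiberMapOver g f h w y ≫ h.fiberι y = f.fiberι y ≫ g :=
  pullback.lift_fst _ _ _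

theorem fiberι_fiberMapOver_apply {X' : Scheme.{u}} (g : X ⟶ X') (h : X' ⟶ Y) (w : g ≫ h = f) (y : Y)
    (x : f.fiber y) : h.fiberι y ((CohIII.fiberMapOver g f h w y).base x) = g (f.fiberι y x) := by
  show h.fiberι y (CohIII.fiberMapOver g f h w y x) = _
  rw [← Scheme.Hom.comp_apply, fiberMapOver_fiberι, Scheme.Hom.comp_apply]

theorem surjective_fiberMapOver {X' : Scheme.{u}} (g : X ⟶ X') [Surjective g] (h : X' ⟶ Y) (w : g ≫ h = f) (y : Y) :
    Function.Surjective (CohIII.fiberMapOver g f h w y).base := by
  intro z
  obtain ⟨x, hx⟩ := g.surjective (h.fiberι y z)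
  have hmem : x ∈ f ⁻¹' {y} := by
    show f x = y
    rw [← w, Scheme.Hom.comp_apply, hx]
    exact (h.range_fiberι y).le ⟨z, rfl⟩
  obtain ⟨x', rfl⟩ := (f.range_fiberι y).ge hmem
  exact ⟨x', (h.fiberι y).isEmbedding.injective ((fiberι_fiberMapOver_apply f g h w y x').trans hx)⟩

/-- Two points of a fibre have the same image in the Stein fibre iff they lie in the same component. -/
theorem fiberMapOver_eq_iff [IsProper f] (y : Y) (x x' : f.fiber y) :
    (CohIII.fiberMapOver f.toNormalization f f.fromNormalization f.toNormalization_fromNormalization y).base x =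
      (CohIII.fiberMapOver f.toNormalization f f.fromNormalization f.toNormalization_fromNormalization y).base x' ↔
      connectedComponent x = connectedComponent x' := by
  let m := CohIII.fiberMapOver f.toNormalization f f.fromNormalization f.toNormalization_fromNormalization y
  haveI := totallyDisconnectedSpace_fiber f.fromNormalization y
  constructor
  · intro h
    let z := f.toNormalization (f.fiberι y x)
    have hz : ∀ t : f.fiber y, m t = m x ↔ t ∈ f.fiberι y ⁻¹' (f.toNormalization ⁻¹' {z}) := fun t => by
      constructor
      · intro ht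
        show f.toNormalization (f.fiberι y t) = z
        rw [← fiberι_fiberMapOver_apply f _ _ f.toNormalization_fromNormalization]
        exact (congrArg _ ht).trans (fiberι_fiberMapOver_apply f _ _ f.toNormalization_fromNormalization y x)
      · intro ht
        refine (f.fromNormalization.fiberι y).isEmbedding.injective ?_
        exact ((fiberι_fiberMapOver_apply f _ _ f.toNormalization_fromNormalization y t).trans ht).trans
          (fiberι_fiberMapOver_apply f _ _ f.toNormalization_fromNormalization y x).symm
    have hsub : f.toNormalization ⁻¹' {z} ⊆ Set.range (f.fiberι y) := by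
      intro w hw
      rw [f.range_fiberι]
      show f w = y
      calc f w = (f.toNormalization ≫ f.fromNormalization) w := by rw [f.toNormalization_fromNormalization]
        _ = f.fromNormalization z := by rw [Scheme.Hom.comp_apply]; rw [show f.toNormalization w = z from hw]
        _ = f (f.fiberι y x) := by rw [← Scheme.Hom.comp_apply, f.toNormalization_fromNormalization]
        _ = y := (f.range_fiberι y).le ⟨x, rfl⟩
    have hpre : _root_.IsPreconnected {t : f.fiber y | m t = m x} := by
      rw [← (f.fiberι y).isEmbedding.isInducing.isPreconnected_image]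
      have : (f.fiberι y) '' {t : f.fiber y | m t = m x} = f.toNormalization ⁻¹' {z} := by
        rw [show {t : f.fiber y | m t = m x} = f.fiberι y ⁻¹' (f.toNormalization ⁻¹' {z}) from Set.ext hz,
          Set.image_preimage_eq_inter_range, Set.inter_eq_left.mpr hsub]
      rw [this]
      exact (f.toNormalization.isConnected_preimage_singleton z).isPreconnected
    exact (connectedComponent_eq (hpre.subset_connectedComponent (show x ∈ {t | m t = m x} from rfl) h.symm))
  · intro h
    have := m.continuous.image_connectedComponent_subset x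
    rw [totallyDisconnectedSpace_iff_connectedComponent_singleton.mp
      (totallyDisconnectedSpace_fiber f.fromNormalization y)] at this
    have hx' : x' ∈ connectedComponent x := by rw [h]; exact mem_connectedComponent
    exact (this ⟨x', hx', rfl⟩).symm

end Groth.Agent.Stein6
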