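import Groth.Agent.Lib.HensProper6.General
import Groth.Agent.Lib.Hens.Henselization
import Groth.Agent.Lib.Blanchard19
import Groth.Agent.Lib.GeomIrr18.Scheme
import Groth.Agent.Lib.Descend.BaseChangeAt
import Mathlib

/-! # Proper morphisms with `g_* O = O` have geometrically connected fibres

Over the strict henselization of a local ring of the base (which is flat) the space of the base
change is connected, so by lifting of clopens over a henselian pair its closed fibre is connected;
the residue field being separably closed, the fibre is geometrically connected.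
-/

set_option autoImplicit false
universe u

open CategoryTheory CategoryTheory.Limits AlgebraicGeometry IsLocalRing

namespace Groth.Agent.Stein6

/-- A quasi-compact scheme with a local ring of global functions is connected as soon as nonempty. -/
theorem clopen_eq_empty_or_univ {X : Scheme.{u}} [CompactSpace X] [IsLocalRing Γ(X, ⊤)] {W : Set X}
    (hW : IsClopen W) : W = ∅ ∨ W = Set.univ := by
  obtain ⟨e, he, hWe⟩ := FEtEq25.exists_idempotent hW
  rcases IsLocalRing.isUnit_or_isUnit_one_sub_self e with h | h
  · refine Or.inr ?_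
    rw [← hWe, show e = 1 from (h.mul_eq_left).mp he, Scheme.basicOpen_of_isUnit _ isUnit_one]
    rfl
  · refine Or.inl ?_
    have h2 : e * (1 - e) = 0 := by rw [mul_sub, mul_one, he.eq, sub_self]
    rw [← hWe, show e = 0 from (h.mul_left_eq_zero).mp h2, Scheme.basicOpen_zero]
    rfl

/-- The closed fibre of a proper scheme over a henselian local ring with that ring as global
functions is connected. -/
theorem isConnected_closedFibre {R : Type u} [CommRing R] [HenselianLocalRing R] {Y : Scheme.{u}}
    (q : Y ⟶ Spec (CommRingCat.of R)) [IsProper q] (hq : Function.Bijective q.appTop.hom) :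
    _root_.IsConnected (q ⁻¹' {closedPoint R}) := by
  haveI : CompactSpace Y := QuasiCompact.compactSpace_of_compactSpace q
  let e : R ≃+* Γ(Y, ⊤) :=
    (Scheme.ΓSpecIso (CommRingCat.of R)).symm.commRingCatIsoToRingEquiv.trans (RingEquiv.ofBijective q.appTop.hom hq)
  haveI : IsLocalRing Γ(Y, ⊤) := e.isLocalRing
  have hz : (q ⁻¹' PrimeSpectrum.zeroLocus (maximalIdeal R : Set R)) = q ⁻¹' {closedPoint R} := by
    congr 1
    ext p
    constructor
    · intro hp
      exact PrimeSpectrum.ext ((maximalIdeal.isMaximal R).eq_of_le p.isPrime.ne_top hp).symm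
    · rintro rfl
      exact le_refl (maximalIdeal R)
  refine ⟨?_, ?_⟩
  · haveI : Nonempty Y := by
      by_contra hne
      rw [not_nonempty_iff] at hne
      exact not_subsingleton Γ(Y, ⊤) inferInstance
    obtain ⟨x⟩ := ‹Nonempty Y›
    have hcl : IsClosed (Set.range q) := q.isClosedMap.isClosed_range
    have hmem : closedPoint R ∈ Set.range q :=
      (IsLocalRing.specializes_closedPoint (q x)).mem_closed hcl ⟨x, rfl⟩
    obtain ⟨z, hz⟩ := hmem
    exact ⟨z, hz⟩
  · rw [isPreconnected_closed_iff]
    intro U V hU hV hsub ⟨a, ha, haU⟩ ⟨b, hb, hbV⟩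
    by_contra hne
    rw [Set.not_nonempty_iff_eq_empty] at hne
    have hcl : IsClosed (q ⁻¹' {closedPoint R}) :=
      (isClosed_singleton_closedPoint R).preimage q.continuous
    obtain ⟨W, hW, hUW, hWV⟩ := HensProper6.exists_isClopen
      (Hens.henselianRing_maximalIdeal R) q
      (P := U ∩ q ⁻¹' {closedPoint R}) (Q := V ∩ q ⁻¹' {closedPoint R}) (hU.inter hcl) (hV.inter hcl)
      (Set.disjoint_iff_inter_eq_empty.mpr (by
        rw [← hne]
        ext z
        simp only [Set.mem_inter_iff]
        tauto))
      (by rw [hz, ← Set.union_inter_distrib_right]; exact Set.inter_eq_right.mpr hsub)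
    rcases clopen_eq_empty_or_univ hW with h | h
    · exact (h ▸ hUW ⟨haU, ha⟩ : a ∈ (∅ : Set Y))
    · exact Set.disjoint_left.mp hWV (h ▸ Set.mem_univ b) ⟨hbV, hb⟩

/-- **Connectedness theorem**: a proper morphism with `g_* O = O` is geometrically connected. -/
theorem geometricallyConnected_of_app_bijective {X S : Scheme.{u}} (g : X ⟶ S) [IsProper g]
    (hg : ∀ U : S.Opens, Function.Bijective (g.app U)) : GeometricallyConnected g := by
  rw [GeometricallyConnected.iff_geometricallyConnected_fiber]
  intro s
  let O : CommRingCat.{u} := S.presheaf.stalk s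
  let R : Type u := Hens.Hsh O
  haveI : IsSepClosed (ResidueField R) := by
    haveI : IsSepClosure (ResidueField O) (ResidueField R) :=
      Hensel.IsStrictHenselization.isSepClosure (R := O)
    exact IsSepClosure.sep_closed (ResidueField O)
  let φ : O ⟶ CommRingCat.of R := CommRingCat.ofHom (algebraMap O R)
  haveI : Flat (Spec.map φ) :=
    (HasRingHomProperty.Spec_iff (P := @Flat)).mpr (RingHom.flat_algebraMap_iff.mpr inferInstance)
  haveI : Flat (S.fromSpecStalk s) := Descend.flat_fromSpecStalk s
  let j : Spec (CommRingCat.of R) ⟶ S := Spec.map φ ≫ S.fromSpecStalk s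
  let q := pullback.snd g j
  have hq : Function.Bijective q.appTop.hom :=
    Blanchard19.bijective_app_of_isPullback (IsPullback.of_hasPullback g j) hg ⊤
  have hconn := isConnected_closedFibre q hq
  let Ω : Type u := ResidueField R
  let r : Spec (CommRingCat.of Ω) ⟶ Spec (CommRingCat.of R) := Spec.map (CommRingCat.ofHom (residue R))
  let κ : S.residueField s ⟶ CommRingCat.of Ω := CommRingCat.ofHom (algebraMap (ResidueField O) Ω)
  let k : Spec (CommRingCat.of Ω) ⟶ Spec (S.residueField s) := Spec.map κ
  have hkr : k ≫ S.fromSpecResidueField s = r ≫ j := by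
    have h1 : S.residue s ≫ κ = φ ≫ CommRingCat.ofHom (residue R) := rfl
    show Spec.map κ ≫ Spec.map (S.residue s) ≫ S.fromSpecStalk s =
      Spec.map (CommRingCat.ofHom (residue R)) ≫ Spec.map φ ≫ S.fromSpecStalk s
    rw [← Spec.map_comp_assoc, ← Spec.map_comp_assoc, h1]
  let e : pullback q r ≅ pullback (g.fiberToSpecResidueField s) k :=
    pullbackLeftPullbackSndIso g j r ≪≫ pullback.congrHom rfl hkr.symm ≪≫
      (pullbackLeftPullbackSndIso g (S.fromSpecResidueField s) k).symm
  have hrange : Set.range (pullback.fst q r) = q ⁻¹' {closedPoint R} := by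
    rw [Scheme.Pullback.range_fst]
    congr 1
    ext p
    constructor
    · rintro ⟨w, rfl⟩
      refine PrimeSpectrum.ext ?_
      show Ideal.comap (residue R) (show PrimeSpectrum Ω from w).asIdeal = maximalIdeal R
      rw [(IsSimpleOrder.eq_bot_or_eq_top (show PrimeSpectrum Ω from w).asIdeal).resolve_right
        (show PrimeSpectrum Ω from w).isPrime.ne_top, ← RingHom.ker_eq_comap_bot]
      exact IsLocalRing.ker_residue
    · rintro rfl
      refine ⟨closedPoint Ω, PrimeSpectrum.ext ?_⟩
      show Ideal.comap (residue R) (maximalIdeal Ω) = maximalIdeal R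
      rw [maximalIdeal_eq_bot, ← RingHom.ker_eq_comap_bot]
      exact IsLocalRing.ker_residue
  haveI : IsClosedImmersion r := IsClosedImmersion.spec_of_surjective _ residue_surjective
  haveI : ConnectedSpace ↥(pullback q r) := by
    refine connectedSpace_iff_univ.mpr ⟨?_, (pullback.fst q r).isClosedEmbedding.isInducing.isPreconnected_image.mp ?_⟩
    · obtain ⟨z, hz⟩ := hconn.nonempty
      obtain ⟨w, -⟩ := hrange.ge hz
      exact ⟨w, trivial⟩
    · rw [Set.image_univ, hrange]
      exact hconn.isPreconnected
  haveI : ConnectedSpace ↥(pullback (g.fiberToSpecResidueField s) k) :=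
    e.hom.homeomorph.surjective.connectedSpace e.hom.continuous
  haveI hs : ConnectedSpace ↥(pullback (g.fiberToSpecResidueField s) k) := ‹_›
  exact @GeomIrr.geometricallyConnected_of_bc (ResidueField O) _ _ (g.fiberToSpecResidueField s) Ω _ _ _ hs

end Groth.Agent.Stein6
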