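import Groth.Agent.Lib.Stein6.Fibres
import Mathlib

/-! # Base change of the Stein factorization -/

set_option autoImplicit false
universe u
set_option backward.isDefEq.respectTransparency.types false

open CategoryTheory CategoryTheory.Limits AlgebraicGeometry

namespace Groth.Agent.Stein6

theorem isUnivHomeo_normalizationPullback {X S T : Scheme.{u}} (f : X ⟶ S) [IsProper f] (g : T ⟶ S) :
    FlatMor.IsUnivHomeo (f.normalizationPullback g) := by
  let f' := pullback.snd f g
  let q := f'.toNormalization ≫ f.normalizationPullback g
  have h2 : q ≫ pullback.snd f.fromNormalization g = pullback.snd f g := by
    simp [q, f']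
  have hq : IsPullback (pullback.fst f g) q f.toNormalization (pullback.fst f.fromNormalization g) :=
    IsPullback.of_bot (by
      rw [h2, f.toNormalization_fromNormalization]
      exact IsPullback.of_hasPullback f g)
      (by simp [q, f']) (IsPullback.of_hasPullback f.fromNormalization g)
  haveI hgc : GeometricallyConnected q := MorphismProperty.of_isPullback hq inferInstance
  haveI : GeometricallyConnected (f'.toNormalization ≫ f.normalizationPullback g) := hgc
  haveI := universallyInjective_of_geometricallyConnected f'.toNormalization (f.normalizationPullback g)
  haveI : Surjective (f'.toNormalization ≫ f.normalizationPullback g) := inferInstance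
  haveI : Surjective (f.normalizationPullback g) := Surjective.of_comp f'.toNormalization _
  exact UH.isUnivHomeo_of _

end Groth.Agent.Stein6
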