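import Groth.Agent.Lib.Stein6.Fibres
import Groth.Agent.Lib.GeomPts5.Count
import Groth.Agent.Lib.GeomRedRes4
import Groth.Prelude.Def_CurvBase
import Mathlib

/-! # Counting geometric connected components -/

set_option autoImplicit false
universe u
set_option backward.isDefEq.respectTransparency.types false

open CategoryTheory CategoryTheory.Limits AlgebraicGeometry
open scoped Topology

namespace Groth.Agent.Stein6

theorem bijective_connectedComponentsLift {P : Type u} {Q : Type u} [TopologicalSpace P] [TopologicalSpace Q]
    [TotallyDisconnectedSpace Q] {m : P → Q} (hm : Continuous m) (hs : Function.Surjective m)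
    (hc : ∀ q, _root_.IsPreconnected (m ⁻¹' {q})) :
    Function.Bijective hm.connectedComponentsLift := by
  constructor
  · intro a b hab
    obtain ⟨x, rfl⟩ := ConnectedComponents.surjective_coe a
    obtain ⟨y, rfl⟩ := ConnectedComponents.surjective_coe b
    rw [hm.connectedComponentsLift_apply_coe, hm.connectedComponentsLift_apply_coe] at hab
    exact ConnectedComponents.coe_eq_coe'.mpr ((hc (m y)).subset_connectedComponent rfl hab)
  · intro q
    obtain ⟨x, rfl⟩ := hs q
    exact ⟨x, hm.connectedComponentsLift_apply_coe x⟩

theorem finite_connectedComponents (P : Type u) [TopologicalSpace P] [TopologicalSpace.NoetherianSpace P] :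
    Finite (_root_.ConnectedComponents P) := by
  have hfin : Finite ↥(irreducibleComponents P) :=
    (TopologicalSpace.NoetherianSpace.finite_irreducibleComponents (α := P)).to_subtype
  let g : ↥(irreducibleComponents P) → _root_.ConnectedComponents P := fun Z =>
    ConnectedComponents.mk Z.2.1.nonempty.choose
  refine Finite.of_surjective g fun c => ?_
  obtain ⟨x, rfl⟩ := ConnectedComponents.surjective_coe c
  refine ⟨⟨irreducibleComponent x, irreducibleComponent_mem_irreducibleComponents x⟩, ?_⟩
  exact ConnectedComponents.coe_eq_coe'.mpr
    ((irreducibleComponent_mem_irreducibleComponents x).1.isConnected.subset_connectedComponent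
      mem_irreducibleComponent (irreducibleComponent_mem_irreducibleComponents x).1.nonempty.choose_spec)

theorem nGeomConnComp_eq {X S : Scheme.{u}} (f : X ⟶ S) [IsProper f] (s : S) :
    MoreMor.nGeomConnComp f s < ⊤ ∧
      MoreMor.nGeomConnComp f s = MoreMor.nGeomConnComp f.fromNormalization s := by
  let Ω := SeparableClosure (S.residueField s)
  let k := Spec.map (CommRingCat.ofHom (algebraMap (S.residueField s) Ω))
  let t : Spec (CommRingCat.of Ω) ⟶ S := k ≫ S.fromSpecResidueField s
  let h := f.fromNormalization
  let m : pullback f t ⟶ pullback h t :=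
    pullback.map f t h t f.toNormalization (𝟙 _) (𝟙 _) (by simp [h]) (by simp)
  have hm : IsPullback (pullback.fst f t) m f.toNormalization (pullback.fst h t) :=
    IsPullback.of_bot (by
      rw [show m ≫ pullback.snd h t = pullback.snd f t from (pullback.lift_snd _ _ _).trans (Category.comp_id _),
        show f.toNormalization ≫ h = f from f.toNormalization_fromNormalization]
      exact IsPullback.of_hasPullback f t)
      (pullback.lift_fst _ _ _).symm (IsPullback.of_hasPullback h t)
  haveI : GeometricallyConnected m := MorphismProperty.of_isPullback hm inferInstance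
  haveI : TotallyDisconnectedSpace ↥(pullback h t) :=
    totallyDisconnectedSpace_of_isIntegralHom (Field.toIsField Ω) (pullback.snd h t)
  have hbij := bijective_connectedComponentsLift m.continuous m.surjective
    fun q => (m.isConnected_preimage_singleton q).isPreconnected
  haveI : IsProper (pullback.snd f t) := inferInstance
  haveI : IsLocallyNoetherian (pullback f t) := LocallyOfFiniteType.isLocallyNoetherian (pullback.snd f t)
  haveI : CompactSpace ↥(pullback f t) := QuasiCompact.compactSpace_of_compactSpace (pullback.snd f t)
  haveI : IsNoetherian (pullback f t) := {}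
  haveI : Finite (_root_.ConnectedComponents ↥(pullback f t)) := finite_connectedComponents _
  let ef := (pullbackLeftPullbackSndIso f (S.fromSpecResidueField s) k).hom.homeomorph
  let eh := (pullbackLeftPullbackSndIso h (S.fromSpecResidueField s) k).hom.homeomorph
  haveI : TotallyDisconnectedSpace ↥(MoreMor.geomFiber h s) :=
    ⟨fun T _ hT => by
      intro a ha b hb
      exact eh.injective ((hT.image eh eh.continuous.continuousOn).subsingleton ⟨a, ha, rfl⟩ ⟨b, hb, rfl⟩)⟩
  have e1 : _root_.ConnectedComponents ↥(MoreMor.geomFiber f s) ≃ _root_.ConnectedComponents ↥(pullback f t) :=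
    { toFun := ef.continuous.connectedComponentsMap
      invFun := ef.symm.continuous.connectedComponentsMap
      left_inv := fun c => by
        obtain ⟨x, rfl⟩ := ConnectedComponents.surjective_coe c
        exact congrArg ConnectedComponents.mk (ef.symm_apply_apply x)
      right_inv := fun c => by
        obtain ⟨x, rfl⟩ := ConnectedComponents.surjective_coe c
        exact congrArg ConnectedComponents.mk (ef.apply_symm_apply x) }
  have e2 : _root_.ConnectedComponents ↥(MoreMor.geomFiber h s) ≃ ↥(MoreMor.geomFiber h s) :=
    Equiv.ofBijective _ (bijective_connectedComponentsLift (m := id) continuous_id Function.surjective_id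
      fun q => isPreconnected_singleton)
  refine ⟨?_, ?_⟩
  · rw [MoreMor.nGeomConnComp, ENat.card_congr e1, ENat.card_eq_coe_natCard]
    exact ENat.natCast_lt_top _
  · rw [MoreMor.nGeomConnComp, MoreMor.nGeomConnComp, ENat.card_congr e1, ENat.card_congr e2]
    exact (ENat.card_congr (Equiv.ofBijective _ hbij)).trans (ENat.card_congr eh.toEquiv).symm

section Finite

attribute [local instance] Curv2.resAlgebra

open Weight

theorem fromSpecResidueField_comp {k : Type u} [Field k] {F : Scheme.{u}} [F.Over (Spec (CommRingCat.of k))] (z : F) :
    F.fromSpecResidueField z ≫ (F ↘ Spec (CommRingCat.of k)) =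
      Spec.map (CommRingCat.ofHom (algebraMap k (F.residueField z))) := by
  rw [Scheme.fromSpecResidueField, Category.assoc, ← GeomRedRes4.spec_stalkMap, ← Spec.map_comp]
  rfl

theorem nGeomConnComp_eq_finsum (k : Type u) [Field k] (S' : Scheme.{u}) [S'.Over (Spec (CommRingCat.of k))]
    [IsFinite (S' ↘ (Spec (CommRingCat.of k)))] (p : ↥(Spec (CommRingCat.of k))) :
    MoreMor.nGeomConnComp (S' ↘ (Spec (CommRingCat.of k))) p =
      ((∑ᶠ s' : S', Field.finSepDegree k (S'.residueField s') : ℕ) : ℕ∞) := by
  classical
  let π := S' ↘ Spec (CommRingCat.of k)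
  let Ω := AlgebraicClosure k
  let t : Spec (CommRingCat.of Ω) ⟶ Spec (CommRingCat.of k) := Spec.map (CommRingCat.ofHom (algebraMap k Ω))
  rw [GeomPts5.nGeomConnComp_eq_card π t p (Subsingleton.elim (α := PrimeSpectrum k) _ _)]
  haveI : Finite ↥S' := by
    have := π.finite_preimage_singleton p
    rw [show π ⁻¹' {p} = Set.univ from Set.eq_univ_of_forall fun x => Subsingleton.elim (α := PrimeSpectrum k) _ _] at this
    exact Set.finite_univ_iff.mp this
  haveI : ∀ z : S', Algebra.IsAlgebraic k (S'.residueField z) := fun z => by
    haveI : IsFinite (S'.fromSpecResidueField z ≫ π) := by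
      haveI : IsClosedImmersion (S'.fromSpecResidueField z) := by
        haveI : T1Space S' := t1Space_of_isIntegralHom (Field.toIsField k) π
        exact isClosed_singleton_iff_isClosedImmersion.mp isClosed_singleton
      infer_instance
    rw [fromSpecResidueField_comp, IsFinite.SpecMap_iff] at this
    haveI : Module.Finite k (S'.residueField z) := RingHom.finite_algebraMap.mp this
    infer_instance
  have hiff : ∀ (z : S') (e : S'.residueField z ⟶ CommRingCat.of Ω),
      fieldPt z e ≫ π = t ↔ e.hom.comp (algebraMap k (S'.residueField z)) = algebraMap k Ω := by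
    intro z e
    show (Spec.map e ≫ S'.fromSpecResidueField z) ≫ π = t ↔ _
    rw [Category.assoc, fromSpecResidueField_comp, ← Spec.map_comp]
    constructor
    · intro h
      exact congr($(Spec.map_injective h).hom)
    · intro h
      exact congrArg Spec.map (CommRingCat.hom_ext h)
  let E : (Σ z : S', S'.residueField z →ₐ[k] Ω) → {a : Spec (CommRingCat.of Ω) ⟶ S' // a ≫ π = t} :=
    fun w => ⟨fieldPt w.1 (CommRingCat.ofHom w.2.toRingHom), (hiff _ _).mpr w.2.comp_algebraMap⟩
  have hE : Function.Bijective E := by
    constructor
    · rintro ⟨z, σ⟩ ⟨z', σ'⟩ h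
      have h' := congrArg Subtype.val h
      obtain rfl : z = z' := by
        have := congrArg pt h'
        rwa [pt_fieldPt, pt_fieldPt] at this
      obtain rfl : σ = σ' := AlgHom.ext fun r => congr($(fieldPt_injective z h').hom r)
      rfl
    · rintro ⟨a, ha⟩
      obtain ⟨z, hz⟩ : ∃ z, pt a = z := ⟨_, rfl⟩
      obtain ⟨e, rfl⟩ := exists_eq_fieldPt a z hz
      exact ⟨⟨z, { e.hom with commutes' := fun r => congr($((hiff _ e).mp ha) r) }⟩, Subtype.ext rfl⟩
  rw [← ENat.card_congr (Equiv.ofBijective E hE)]
  letI := Fintype.ofFinite S'
  haveI : ∀ z : S', Finite (S'.residueField z →ₐ[k] Ω) := fun z => by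
    haveI : IsFinite (S'.fromSpecResidueField z ≫ π) := by
      haveI : IsClosedImmersion (S'.fromSpecResidueField z) := by
        haveI : T1Space S' := t1Space_of_isIntegralHom (Field.toIsField k) π
        exact isClosed_singleton_iff_isClosedImmersion.mp isClosed_singleton
      infer_instance
    rw [fromSpecResidueField_comp, IsFinite.SpecMap_iff] at this
    haveI : Module.Finite k (S'.residueField z) := RingHom.finite_algebraMap.mp this
    exact Finite.of_fintype _
  rw [ENat.card_eq_coe_natCard, Nat.card_sigma, finsum_eq_sum_of_fintype]
  congr 1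
  exact Finset.sum_congr rfl fun z _ => (Field.finSepDegree_eq_of_isAlgClosed _ _ _).symm

end Finite

end Groth.Agent.Stein6
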