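import Groth.Agent.Lib.GeomSpread4.Count
import Groth.Agent.Lib.FibDim4.GenericFP
import Mathlib

/-! # Components of the generic fibre spread out -/

set_option autoImplicit false
universe u
set_option backward.isDefEq.respectTransparency.types false

open CategoryTheory CategoryTheory.Limits AlgebraicGeometry TopologicalSpace
open Groth.Agent.GeomSpread4

namespace Groth.Agent.Stein6

variable {X Y : Scheme.{u}} [IrreducibleSpace ↥Y]

theorem apply_bot {D : CommRingCat.{u}} [IsDomain D] (i : Spec D ⟶ Y)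
    (h : genericPoint ↥Y ∈ Set.range i) : i (bot D) = genericPoint ↥Y := by
  obtain ⟨x, hx⟩ := h
  have h1 : i (bot D) ⤳ i x :=
    Specializes.map ((PrimeSpectrum.le_iff_specializes (⟨⊥, Ideal.isPrime_bot⟩ : PrimeSpectrum D) x).1 bot_le) i.continuous
  rw [hx] at h1
  exact (h1.antisymm (genericPoint_specializes _)).eq

/-- An image missing the generic point misses a neighbourhood of it. -/
theorem exists_nhd_disjoint (f : X ⟶ Y) [LocallyOfFiniteType f] [QuasiCompact f]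
    (h : genericPoint ↥Y ∉ Set.range f) : ∃ V : Y.Opens, genericPoint ↥Y ∈ V ∧ ∀ y ∈ V, y ∉ Set.range f := by
  obtain ⟨D, _, i, hi, hio, hη, -⟩ := FibDim4.exists_generic_fp f
  obtain ⟨d, hd, hg⟩ := exists_generization (pullback.snd f i)
  refine ⟨⟨i '' (PrimeSpectrum.basicOpen d : Set (PrimeSpectrum D)),
    (show Topology.IsOpenEmbedding i from ⟨i.isEmbedding, hio⟩).isOpenMap _ (PrimeSpectrum.basicOpen d).2⟩, ⟨bot D, fun h0 => hd (Ideal.mem_bot.1 h0), apply_bot i hη⟩, ?_⟩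
  rintro _ ⟨r, hr, rfl⟩ ⟨x, hx⟩
  obtain ⟨z, -, hz⟩ := Scheme.Pullback.exists_preimage_pullback (f := f) (g := i) x r hx
  obtain ⟨w, -, hw⟩ := hg z (hz ▸ hr)
  refine h ⟨pullback.fst f i w, ?_⟩
  rw [← Scheme.Hom.comp_apply, pullback.condition, Scheme.Hom.comp_apply, hw, apply_bot i hη]

/-- Near the generic point, every point has a generization in the generic fibre. -/
theorem exists_nhd_generization (f : X ⟶ Y) [LocallyOfFiniteType f] [QuasiCompact f] :
    ∃ V : Y.Opens, genericPoint ↥Y ∈ V ∧ ∀ x, f x ∈ V → ∃ w, w ⤳ x ∧ f w = genericPoint ↥Y := by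
  obtain ⟨D, _, i, hi, hio, hη, -⟩ := FibDim4.exists_generic_fp f
  obtain ⟨d, hd, hg⟩ := exists_generization (pullback.snd f i)
  refine ⟨⟨i '' (PrimeSpectrum.basicOpen d : Set (PrimeSpectrum D)),
    (show Topology.IsOpenEmbedding i from ⟨i.isEmbedding, hio⟩).isOpenMap _ (PrimeSpectrum.basicOpen d).2⟩, ⟨bot D, fun h0 => hd (Ideal.mem_bot.1 h0), apply_bot i hη⟩, ?_⟩
  rintro x ⟨r, hr, hrx⟩
  obtain ⟨z, rfl, hz⟩ := Scheme.Pullback.exists_preimage_pullback (f := f) (g := i) x r hrx.symm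
  obtain ⟨w, hwz, hw⟩ := hg z (hz ▸ hr)
  refine ⟨pullback.fst f i w, hwz.map (pullback.fst f i).continuous, ?_⟩
  rw [← Scheme.Hom.comp_apply, pullback.condition, Scheme.Hom.comp_apply, hw, apply_bot i hη]

/-- An image containing the generic point contains a neighbourhood of it. -/
theorem exists_nhd_subset (f : X ⟶ Y) [LocallyOfFiniteType f] [QuasiCompact f]
    (h : genericPoint ↥Y ∈ Set.range f) : ∃ V : Y.Opens, genericPoint ↥Y ∈ V ∧ ∀ y ∈ V, y ∈ Set.range f := by
  obtain ⟨D, _, i, hi, hio, hη, hfp⟩ := FibDim4.exists_generic_fp f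
  haveI := hfp
  obtain ⟨x, hx⟩ := h
  obtain ⟨z, -, hz⟩ := Scheme.Pullback.exists_preimage_pullback (f := f) (g := i) x (bot D)
    (by rw [hx, apply_bot i hη])
  haveI : CompactSpace ↥(pullback f i) := QuasiCompact.compactSpace_of_compactSpace (pullback.snd f i)
  have hc : Topology.IsConstructible ((pullback.snd f i) '' Set.univ) :=
    (pullback.snd f i).isConstructible_image Topology.IsConstructible.univ
  obtain ⟨d, hd, hds⟩ := exists_basicOpen_subset hc ⟨z, trivial, hz⟩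
  refine ⟨⟨i '' (PrimeSpectrum.basicOpen d : Set (PrimeSpectrum D)),
    (show Topology.IsOpenEmbedding i from ⟨i.isEmbedding, hio⟩).isOpenMap _ (PrimeSpectrum.basicOpen d).2⟩, ⟨bot D, fun h0 => hd (Ideal.mem_bot.1 h0), apply_bot i hη⟩, ?_⟩
  rintro _ ⟨r, hr, rfl⟩
  obtain ⟨w, -, hw⟩ := hds r hr
  exact ⟨pullback.fst f i w, by rw [← Scheme.Hom.comp_apply, pullback.condition, Scheme.Hom.comp_apply, hw]⟩

/-- Closed sets: missing the generic fibre, resp. meeting it, persists nearby. -/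
theorem exists_nhd_closed (f : X ⟶ Y) [LocallyOfFiniteType f] [QuasiCompact f] (C : Closeds X) :
    ∃ V : Y.Opens, genericPoint ↥Y ∈ V ∧ ∀ y ∈ V,
      ((∃ x ∈ C, f x = y) ↔ ∃ x ∈ C, f x = genericPoint ↥Y) := by
  let I := Scheme.IdealSheafData.vanishingIdeal C
  have hr : Set.range I.subschemeι = (C : Set X) := by
    rw [Scheme.IdealSheafData.range_subschemeι, Scheme.IdealSheafData.coe_support_vanishingIdeal]
  have key : ∀ y, (∃ x ∈ C, f x = y) ↔ y ∈ Set.range (I.subschemeι ≫ f) := fun y => by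
    refine ⟨fun ⟨x, hx, hxy⟩ => ?_, fun ⟨a, ha⟩ => ⟨I.subschemeι a, hr.le ⟨a, rfl⟩, ha⟩⟩
    obtain ⟨a, rfl⟩ := hr.ge hx
    exact ⟨a, hxy⟩
  by_cases h : genericPoint ↥Y ∈ Set.range (I.subschemeι ≫ f)
  · obtain ⟨V, hV, hVs⟩ := exists_nhd_subset _ h
    exact ⟨V, hV, fun y hy => iff_of_true ((key y).2 (hVs y hy)) ((key _).2 h)⟩
  · obtain ⟨V, hV, hVs⟩ := exists_nhd_disjoint _ h
    exact ⟨V, hV, fun y hy => iff_of_false (fun hc => hVs y hy ((key y).1 hc)) (fun hc => h ((key _).1 hc))⟩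

end Groth.Agent.Stein6
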