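import Groth.Agent.Lib.Stein6.GenFibre
import Mathlib

/-! # Opens meeting the generic fibre meet the nearby fibres -/

set_option autoImplicit false
universe u
set_option backward.isDefEq.respectTransparency.types false

open CategoryTheory CategoryTheory.Limits AlgebraicGeometry TopologicalSpace
open Groth.Agent.GeomSpread4

namespace Groth.Agent.Stein6

variable {X Y : Scheme.{u}} [IrreducibleSpace ↥Y]

theorem exists_nhd_meet (f : X ⟶ Y) [LocallyOfFiniteType f] [QuasiCompact f] (O : X.Opens) {a : X}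
    (ha : a ∈ O) (hfa : f a = genericPoint ↥Y) :
    ∃ V : Y.Opens, genericPoint ↥Y ∈ V ∧ ∀ y ∈ V, ∃ x ∈ O, f x = y := by
  obtain ⟨D, _, i, hi, hio, hη, hfp⟩ := FibDim4.exists_generic_fp f
  haveI := hfp
  obtain ⟨z, hz, hzb⟩ := Scheme.Pullback.exists_preimage_pullback (f := f) (g := i) a (bot D)
    (by rw [hfa, apply_bot i hη])
  obtain ⟨O', hO', hzO', hsub⟩ := exists_isAffineOpen_mem_and_subset (X := pullback f i) (x := z)
    (U := pullback.fst f i ⁻¹ᵁ O) (show pullback.fst f i z ∈ O from hz.symm ▸ ha)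
  haveI : IsAffine O' := hO'
  let g := O'.ι ≫ pullback.snd f i
  haveI : LocallyOfFinitePresentation g := inferInstance
  haveI : QuasiCompact g := inferInstance
  have hc : Topology.IsConstructible (g '' Set.univ) := g.isConstructible_image Topology.IsConstructible.univ
  obtain ⟨d, hd, hds⟩ := exists_basicOpen_subset hc ⟨⟨z, hzO'⟩, trivial, hzb⟩
  refine ⟨⟨i '' (PrimeSpectrum.basicOpen d : Set (PrimeSpectrum D)),
    (show Topology.IsOpenEmbedding i from ⟨i.isEmbedding, hio⟩).isOpenMap _ (PrimeSpectrum.basicOpen d).2⟩, ⟨bot D, fun h0 => hd (Ideal.mem_bot.1 h0), apply_bot i hη⟩, ?_⟩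
  rintro _ ⟨r, hr, rfl⟩
  obtain ⟨w, -, hw⟩ := hds r hr
  exact ⟨pullback.fst f i w.1, hsub w.2, by rw [← Scheme.Hom.comp_apply, pullback.condition, Scheme.Hom.comp_apply]; exact congrArg i hw⟩

end Groth.Agent.Stein6
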