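import Groth.Agent.Lib.Stein6.Fibres
import Groth.Agent.Lib.Stein6.Count
import Groth.Agent.Lib.Stein6.Finite
import Groth.Prelude.Def_ega3
import Mathlib

/-! # Components of fibres and maximal ideals of the integral closure in the function field -/

set_option autoImplicit false
universe u
set_option backward.isDefEq.respectTransparency.types false

open CategoryTheory CategoryTheory.Limits AlgebraicGeometry

namespace Groth.Agent.Stein6

/-- Every prime of an integral algebra `B ⊆ K` over `p` lies under a maximal ideal of the integral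
closure of the local ring at `p` in `K`. -/
theorem exists_maximal_over {A O B K : Type u} [CommRing A] [CommRing O] [CommRing B] [Field K]
    [Algebra A O] [Algebra A B] [Algebra A K] [Algebra O K] [Algebra B K]
    [IsScalarTower A O K] [IsScalarTower A B K] [Algebra.IsIntegral A B]
    (hinj : Function.Injective (algebraMap B K)) (p : Ideal A) [p.IsPrime] [IsLocalization.AtPrime O p]
    (q : Ideal B) [q.IsPrime] (hq : q.comap (algebraMap A B) = p) :
    ∃ (i : B →+* ↥(integralClosure O K)) (m : MaximalSpectrum ↥(integralClosure O K)),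
      (∀ b, (i b : K) = algebraMap B K b) ∧ m.asIdeal.comap i = q := by
  have hmem : ∀ b : B, algebraMap B K b ∈ integralClosure O K := fun b =>
    ((Algebra.IsIntegral.isIntegral (R := A) b).map (IsScalarTower.toAlgHom A B K)).tower_top
  let i : B →+* ↥(integralClosure O K) := RingHom.codRestrict (algebraMap B K) (integralClosure O K) hmem
  have key : (q.map i).comap i = q := by
    refine le_antisymm (fun b hb => ?_) Ideal.le_comap_map
    -- clear the denominators
    letI : Algebra B ↥(integralClosure B K) := inferInstance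
    have hD : ∀ x : ↥(integralClosure O K), ∃ s : A, s ∉ p ∧ algebraMap A K s * (x : K) ∈ integralClosure B K := by
      intro x
      haveI : IsLocalization p.primeCompl O := ‹IsLocalization.AtPrime O p›
      obtain ⟨⟨s, hs⟩, hsx⟩ := IsIntegral.exists_multiple_integral_of_isLocalization p.primeCompl (Rₘ := O) (x : K) x.2
      refine ⟨s, hs, ?_⟩
      have h2 : IsIntegral A (algebraMap A K s * (x : K)) := by rwa [Submonoid.smul_def, Algebra.smul_def] at hsx
      exact h2.tower_top
    let J : Ideal ↥(integralClosure B K) := q.map (algebraMap B ↥(integralClosure B K))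
    have hgen : ∀ z : ↥(integralClosure O K), z ∈ q.map i →
        ∃ s : A, s ∉ p ∧ ∃ w ∈ J, algebraMap A K s * (z : K) = (w : K) := by
      intro z hz
      induction hz using Submodule.span_induction with
      | mem z hz =>
        obtain ⟨c, hc, rfl⟩ := hz
        exact ⟨1, fun h => ‹p.IsPrime›.ne_top ((Ideal.eq_top_iff_one p).mpr h), _, Ideal.mem_map_of_mem _ hc, by
          rw [map_one, one_mul]; rfl⟩
      | zero => exact ⟨1, fun h => ‹p.IsPrime›.ne_top ((Ideal.eq_top_iff_one p).mpr h), 0, J.zero_mem, by simp⟩
      | add a c _ _ ha hc =>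
        obtain ⟨s, hs, w, hw, h1⟩ := ha
        obtain ⟨t, ht, v, hv, h2⟩ := hc
        refine ⟨s * t, fun h => (‹p.IsPrime›.mem_or_mem h).elim hs ht,
          algebraMap B _ (algebraMap A B t) * w + algebraMap B _ (algebraMap A B s) * v,
          J.add_mem (J.mul_mem_left _ hw) (J.mul_mem_left _ hv), ?_⟩
        show algebraMap A K (s * t) * ((a : K) + (c : K)) =
          algebraMap B K (algebraMap A B t) * (w : K) + algebraMap B K (algebraMap A B s) * (v : K)
        rw [← h1, ← h2, ← IsScalarTower.algebraMap_apply, ← IsScalarTower.algebraMap_apply, map_mul]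
        ring
      | smul a c _ hc =>
        obtain ⟨s, hs, w, hw, h1⟩ := hc
        obtain ⟨t, ht, hta⟩ := hD a
        refine ⟨t * s, fun h => (‹p.IsPrime›.mem_or_mem h).elim ht hs, ⟨_, hta⟩ * w, J.mul_mem_left _ hw, ?_⟩
        show algebraMap A K (t * s) * ((a : K) * (c : K)) = (algebraMap A K t * (a : K)) * (w : K)
        rw [← h1, map_mul]
        ring
    obtain ⟨s, hs, w, hw, h⟩ := hgen (i b) hb
    obtain ⟨Q, -, hQ, hQq⟩ := Ideal.exists_ideal_over_prime_of_isIntegral (S := ↥(integralClosure B K)) q ⊥
      (fun c hc => by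
        have hc' : algebraMap B ↥(integralClosure B K) c = 0 := hc
        have : algebraMap B K c = 0 := congrArg Subtype.val hc'
        rw [hinj (this.trans (map_zero _).symm)]
        exact q.zero_mem)
    have hJQ : J ≤ Q := Ideal.map_le_iff_le_comap.mpr hQq.ge
    have hw' : w = algebraMap B _ (algebraMap A B s * b) := by
      apply Subtype.ext
      rw [← h, show ((algebraMap B ↥(integralClosure B K)) (algebraMap A B s * b) : K) =
        algebraMap B K (algebraMap A B s * b) from rfl, map_mul, ← IsScalarTower.algebraMap_apply]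
      rfl
    have hsb : algebraMap A B s * b ∈ q := by
      rw [← hQq]
      show algebraMap B _ (algebraMap A B s * b) ∈ Q
      rw [← hw']
      exact hJQ hw
    exact (‹q.IsPrime›.mem_or_mem hsb).resolve_left fun h => hs (hq.le h)
  obtain ⟨⟨P, hP⟩, hPq'⟩ := (PrimeSpectrum.mem_range_comap_iff i (p := ⟨q, inferInstance⟩)).mpr key
  have hPq : P.comap i = q := congrArg PrimeSpectrum.asIdeal hPq'
  obtain ⟨m, hm, hPm⟩ := Ideal.exists_le_maximal P hP.ne_top
  refine ⟨i, ⟨m, hm⟩, fun b => rfl, ?_⟩
  show m.comap i = q
  haveI := hm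
  have hle : q ≤ m.comap i := hPq.ge.trans (Ideal.comap_mono hPm)
  have hmO : (m.comap (algebraMap O ↥(integralClosure O K))).IsMaximal :=
    Ideal.isMaximal_comap_of_isIntegral_of_isMaximal m
  have hp : (m.comap i).comap (algebraMap A B) = p := by
    haveI : IsLocalRing O := IsLocalization.AtPrime.isLocalRing O p
    rw [Ideal.comap_comap, show i.comp (algebraMap A B) = (algebraMap O ↥(integralClosure O K)).comp (algebraMap A O) from
      RingHom.ext fun a => Subtype.ext (by
        show algebraMap B K (algebraMap A B a) = algebraMap O K (algebraMap A O a)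
        rw [← IsScalarTower.algebraMap_apply, ← IsScalarTower.algebraMap_apply]),
      ← Ideal.comap_comap, IsLocalRing.eq_maximalIdeal hmO]
    exact IsLocalization.AtPrime.comap_maximalIdeal O p
  by_contra hne
  exact absurd (hq.trans hp.symm) (Ideal.IsIntegral.comap_lt_comap (R := A) (lt_of_le_of_ne hle (Ne.symm hne))).ne

theorem mk_connectedComponents_fiber_le {X Y : Scheme.{u}} [IsIntegral X] (f : X ⟶ Y) [IsProper f]
    (y : Y) (h : f.base (genericPoint X) ⤳ y) :
    Cardinal.mk (_root_.ConnectedComponents (f.fiber y)) ≤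
      Cardinal.mk (MaximalSpectrum (CohIII.integralClosureStalk f y h)) := by
  classical
  let g := f.fromNormalization
  let t := f.toNormalization
  obtain ⟨V, hV, hyV, -⟩ := exists_isAffineOpen_mem_and_subset (X := Y) (x := y) (U := ⊤) trivial
  let W : f.normalization.Opens := g ⁻¹ᵁ V
  have hW : IsAffineOpen W := hV.preimage g
  let η := genericPoint X
  have hηV : f η ∈ V := h.mem_open V.2 hyV
  have hηW : t η ∈ W := by
    show g (t η) ∈ V
    rwa [← Scheme.Hom.comp_apply, f.toNormalization_fromNormalization]
  let O := Y.presheaf.stalk y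
  let K := X.functionField
  letI : Algebra Γ(Y, V) O := Y.presheaf.algebra_section_stalk (⟨y, hyV⟩ : V)
  letI : Algebra Γ(Y, V) Γ(f.normalization, W) := (g.app V).hom.toAlgebra
  letI : Algebra O K := (CohIII.stalkToFunctionField f y h).toAlgebra
  let β : Γ(f.normalization, W) ⟶ K := t.app W ≫ X.presheaf.germ (t ⁻¹ᵁ W) η hηW
  letI : Algebra Γ(f.normalization, W) K := β.hom.toAlgebra
  letI : Algebra Γ(Y, V) K := ((CohIII.stalkToFunctionField f y h).comp (algebraMap Γ(Y, V) O)).toAlgebra
  haveI : IsScalarTower Γ(Y, V) O K := IsScalarTower.of_algebraMap_eq' rfl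
  haveI : IsScalarTower Γ(Y, V) Γ(f.normalization, W) K := IsScalarTower.of_algebraMap_eq' (by
    show (CohIII.stalkToFunctionField f y h).comp (Y.presheaf.germ V y hyV).hom = β.hom.comp (g.app V).hom
    rw [CohIII.stalkToFunctionField, RingHom.comp_assoc, ← CommRingCat.hom_comp,
      TopCat.Presheaf.germ_stalkSpecializes, ← CommRingCat.hom_comp, Scheme.Hom.germ_stalkMap,
      ← CommRingCat.hom_comp]
    congr 1
    simp only [β, g, t, W]
    rw [← Category.assoc, ← Scheme.Hom.comp_app]
    simp [Scheme.Hom.congr_app f.toNormalization_fromNormalization V]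
    rfl)
  haveI : Algebra.IsIntegral Γ(Y, V) Γ(f.normalization, W) := ⟨IsIntegralHom.isIntegral_app (f := g) V hV⟩
  have hinj : Function.Injective (algebraMap Γ(f.normalization, W) K) :=
    (germ_injective_of_isIntegral (X := X) (U := t ⁻¹ᵁ W) η hηW).comp (bijective_toNormalization_app f W).1
  haveI hloc := hV.isLocalization_stalk ⟨y, hyV⟩
  let p : Ideal Γ(Y, V) := (hV.primeIdealOf ⟨y, hyV⟩).asIdeal
  haveI : IsLocalization.AtPrime O p := hloc
  let P := ↥(g.fiber y)
  have hzW : ∀ z : P, g.fiberι y z ∈ W := fun z => by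
    show g (g.fiberι y z) ∈ V
    rw [show g (g.fiberι y z) = y from (g.range_fiberι y).le ⟨z, rfl⟩]
    exact hyV
  have hq : ∀ z : P, (hW.primeIdealOf ⟨g.fiberι y z, hzW z⟩).asIdeal.comap (algebraMap Γ(Y, V) Γ(f.normalization, W)) = p := fun z => by
    have h1 := congrArg PrimeSpectrum.asIdeal (IsAffineOpen.comap_primeIdealOf_appLE (f := g) V hV W hW le_rfl (hzW z))
    rw [← Scheme.Hom.app_eq_appLE] at h1
    refine h1.trans ?_
    have hy : g (g.fiberι y z) = y := (g.range_fiberι y).le ⟨z, rfl⟩
    simp only [p, hy]
  choose i m hi hm using fun z : P => exists_maximal_over (O := O) (K := K) hinj p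
    (hW.primeIdealOf ⟨g.fiberι y z, hzW z⟩).asIdeal (hq z)
  have hcard : Cardinal.mk P ≤ Cardinal.mk (MaximalSpectrum ↥(integralClosure O K)) := by
    refine Cardinal.mk_le_of_injective (f := m) fun z z' he => ?_
    have hii : i z = i z' := RingHom.ext fun b => Subtype.ext ((hi z b).trans (hi z' b).symm)
    have h2 : hW.primeIdealOf ⟨g.fiberι y z, hzW z⟩ = hW.primeIdealOf ⟨g.fiberι y z', hzW z'⟩ :=
      PrimeSpectrum.ext (by rw [← hm z, ← hm z', he, hii])
    have h3 := congrArg hW.fromSpec h2
    rw [hW.fromSpec_primeIdealOf, hW.fromSpec_primeIdealOf] at h3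
    exact (g.fiberι y).isEmbedding.injective h3
  haveI := totallyDisconnectedSpace_fiber g y
  let μ := CohIII.fiberMapOver t f g f.toNormalization_fromNormalization y
  have hinj' : Function.Injective μ.continuous.connectedComponentsLift := by
    intro a b hab
    obtain ⟨x, rfl⟩ := ConnectedComponents.surjective_coe a
    obtain ⟨x', rfl⟩ := ConnectedComponents.surjective_coe b
    rw [Continuous.connectedComponentsLift_apply_coe, Continuous.connectedComponentsLift_apply_coe] at hab
    exact ConnectedComponents.coe_eq_coe.mpr ((fiberMapOver_eq_iff f y x x').mp hab)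
  exact (Cardinal.mk_le_of_injective hinj').trans hcard

end Groth.Agent.Stein6
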