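import Groth.Agent.Lib.Stein6.NormalBase
import Groth.Agent.Lib.RefHull26.Normal
import Groth.Agent.Lib.RigidRel.Const
import Groth.Agent.Lib.AbRigid.SmoothGI
import Groth.Prelude.Def_Models
import Groth.Prelude.Def_Curve
import Mathlib

/-! # Regular proper models have geometrically connected fibres -/

set_option autoImplicit false
universe u
set_option backward.isDefEq.respectTransparency.types false

open CategoryTheory CategoryTheory.Limits AlgebraicGeometry

namespace Groth.Agent.Stein6

theorem exists_iso_fraction {R : Type u} [CommRing R] [IsDomain R] {X C : Scheme.{u}}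
    {p : X ⟶ Spec (CommRingCat.of R)} {f : C ⟶ Spec (CommRingCat.of (FractionRing R))} {g : C ⟶ X}
    (hg : IsPullback g f p (Spec.map (CommRingCat.ofHom (algebraMap R (FractionRing R)))))
    {η : Spec (CommRingCat.of R)} (hη : (show PrimeSpectrum R from η).asIdeal = ⊥)
    (K : Type u) [Field K] (y : Spec (CommRingCat.of K) ⟶ Spec ((Spec (CommRingCat.of R)).residueField η)) :
    ∃ ψ : CommRingCat.of (FractionRing R) ⟶ CommRingCat.of K,
      Nonempty (pullback (p.fiberToSpecResidueField η) y ≅ pullback f (Spec.map ψ)) := by
  let z := y ≫ (Spec (CommRingCat.of R)).fromSpecResidueField η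
  obtain ⟨φ, hφ⟩ := Spec.map_surjective z
  have hinj : Function.Injective φ.hom := by
    rw [RingHom.injective_iff_ker_eq_bot, ← hη]
    have h1 : Spec.map φ (IsLocalRing.closedPoint K) = η := by
      rw [hφ]
      show (y ≫ _) _ = η
      rw [Scheme.Hom.comp_apply, Scheme.fromSpecResidueField_apply]
    have h2 := congrArg (fun q : PrimeSpectrum R => q.asIdeal) h1
    refine Eq.trans ?_ h2
    show RingHom.ker φ.hom = (IsLocalRing.maximalIdeal K).comap φ.hom
    rw [IsLocalRing.maximalIdeal_eq_bot, RingHom.ker_eq_comap_bot]
  refine ⟨CommRingCat.ofHom (IsFractionRing.lift hinj), ⟨?_⟩⟩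
  have h3 : y ≫ (Spec (CommRingCat.of R)).fromSpecResidueField η =
      Spec.map (CommRingCat.ofHom (IsFractionRing.lift hinj)) ≫ Spec.map (CommRingCat.ofHom (algebraMap R (FractionRing R))) := by
    rw [← Spec.map_comp]
    refine hφ.symm.trans (congrArg Spec.map (CommRingCat.hom_ext (RingHom.ext fun r => ?_)))
    exact (IsFractionRing.lift_algebraMap hinj r).symm
  exact pullbackLeftPullbackSndIso p _ y ≪≫ pullback.congrHom rfl h3 ≪≫
    (((IsPullback.of_hasPullback f (Spec.map (CommRingCat.ofHom (IsFractionRing.lift hinj)))).paste_horiz hg).isoPullback).symm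

theorem geometricallyConnected_of_regularProperModel {R : Type u} [CommRing R] [IsDomain R]
    [IsDiscreteValuationRing R] {C X : Scheme.{u}} (f : C ⟶ Spec (CommRingCat.of (FractionRing R)))
    (p : X ⟶ Spec (CommRingCat.of R)) (hC : Curve.IsSmoothProperCurve (FractionRing R) C f)
    [GeometricallyConnected f] (hX : Models.IsRegularProperModel R X p C f) :
    GeometricallyConnected p := by
  obtain ⟨⟨hflat, -, -, g, hg⟩, hproper, hreg⟩ := hX
  haveI := hC.1
  haveI := hC.2.1
  haveI := hflat
  haveI := hproper
  haveI : GeometricallyReduced f := AbRigid.geometricallyReduced_of_smooth f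
  let S := Spec (CommRingCat.of R)
  haveI : IsDomain (CommRingCat.of R) := ‹IsDomain R›
  have hXn := RH26.isNormalScheme_of_regular hreg
  haveI : IsReduced X := by
    haveI : ∀ x : X, _root_.IsReduced (X.presheaf.stalk x) := fun x => by
      haveI := (hXn x).1
      infer_instance
    exact isReduced_of_isReduced_stalk _
  have hS : Pi1.IsNormalScheme S := fun x => by
    letI : Algebra R (S.presheaf.stalk x) := StructureSheaf.stalkAlgebra R x
    haveI : IsLocalization.AtPrime (S.presheaf.stalk x) (show PrimeSpectrum R from x).asIdeal :=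
      StructureSheaf.IsLocalization.to_stalk R x
    refine ⟨inferInstance, ?_⟩
    exact isIntegrallyClosed_of_isLocalization (R := R) (S.presheaf.stalk x)
      (show PrimeSpectrum R from x).asIdeal.primeCompl
      (Ideal.primeCompl_le_nonZeroDivisors _)
  let η := genericPoint S
  have hη : (show PrimeSpectrum R from η).asIdeal = ⊥ := by
    rw [show (show PrimeSpectrum R from η) = ⟨⊥, Ideal.isPrime_bot⟩ from genericPoint_eq_bot_of_affine (CommRingCat.of R)]
  haveI : GeometricallyConnected (p.fiberToSpecResidueField η) :=
    ⟨geometrically_iff_of_isClosedUnderIsomorphisms.mpr fun K _ y => by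
      obtain ⟨ψ, ⟨e⟩⟩ := exists_iso_fraction hg hη K y
      rw [e.hom.homeomorph.connectedSpace_iff]
      exact GeometricallyConnected.geometrically_connectedSpace _ _ _ (IsPullback.of_hasPullback f _)⟩
  haveI : GeometricallyReduced (p.fiberToSpecResidueField η) :=
    ⟨geometrically_iff_of_isClosedUnderIsomorphisms.mpr fun K _ y => by
      obtain ⟨ψ, ⟨e⟩⟩ := exists_iso_fraction hg hη K y
      haveI : IsReduced (pullback f (Spec.map ψ)) :=
        GeometricallyReduced.geometrically_isReduced _ _ _ (IsPullback.of_hasPullback f _)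
      exact isReduced_of_isOpenImmersion e.hom⟩
  haveI : IsProper (p.fiberToSpecResidueField η) := inferInstanceAs (IsProper (pullback.snd _ _))
  have h0 : Function.Bijective (p.fiberToSpecResidueField η).appTop := by
    refine ⟨?_, RigidRel.surjective_appTop (k := S.residueField η) (p.fiberToSpecResidueField η)⟩
    haveI : Nontrivial Γ(p.fiber η, ⊤) := by
      by_contra hn
      rw [not_nontrivial_iff_subsingleton] at hn
      obtain ⟨z, -⟩ := (p.fiberToSpecResidueField η).surjective (IsLocalRing.closedPoint _)
      have : (z : p.fiber η) ∈ (p.fiber η).basicOpen (1 : Γ(p.fiber η, ⊤)) := by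
        rw [Scheme.basicOpen_of_isUnit _ isUnit_one]; trivial
      rw [Subsingleton.elim (1 : Γ(p.fiber η, ⊤)) 0, Scheme.basicOpen_zero] at this
      exact this
    have h1 : Function.Injective ((Scheme.ΓSpecIso (S.residueField η)).inv ≫ (p.fiberToSpecResidueField η).appTop).hom :=
      RingHom.injective _
    intro a b hab
    obtain ⟨a, rfl⟩ := (Scheme.ΓSpecIso (S.residueField η)).symm.commRingCatIsoToRingEquiv.surjective a
    obtain ⟨b, rfl⟩ := (Scheme.ΓSpecIso (S.residueField η)).symm.commRingCatIsoToRingEquiv.surjective b
    exact congrArg _ (h1 hab)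
  have hgen : ∀ Z ∈ irreducibleComponents ↥X, ∀ x : X, IsGenericPoint x Z → p x = η := by
    intro Z hZ x hx
    obtain ⟨x', hx', hx''⟩ := Flat.generalizingMap p ((genericPoint_spec S).specializes (Set.mem_univ (p x)))
    have hZ' : Z = closure {x'} := Set.Subset.antisymm
      (hx ▸ (specializes_iff_closure_subset.mp hx' : closure {x} ⊆ closure {x'}))
      (hZ.2 isIrreducible_singleton.closure (hx ▸ (specializes_iff_closure_subset.mp hx' : closure {x} ⊆ closure {x'})))
    have : x = x' := IsGenericPoint.eq hx hZ'.symm
    rw [this, hx'']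
  refine geometricallyConnected_of_app_bijective p fun U => ?_
  haveI := RigidRel.isIso_app_of_bijective p (bijective_app_of_normal p hS hgen h0) U
  exact (ConcreteCategory.isIso_iff_bijective _).mp inferInstance

end Groth.Agent.Stein6
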