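import Groth.Agent.Lib.GeomSpread4.Strata
import Groth.Agent.Lib.Stein6.GenFibre
import Mathlib

/-! # A non-reduced generic fibre spreads out -/

set_option autoImplicit false
universe u
set_option backward.isDefEq.respectTransparency.types false

open CategoryTheory CategoryTheory.Limits AlgebraicGeometry TensorProduct
open Groth.Agent.GeomSpread4

namespace Groth.Agent.Stein6

theorem exists_nilpotent_spread {D B : Type u} [CommRing D] [IsDomain D] [CommRing B] [Algebra D B]
    [Algebra.FiniteType D B] (h : ¬ _root_.IsReduced (FractionRing D ⊗[D] B)) :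
    ∃ d : D, d ≠ 0 ∧ ∀ (L : Type u) [Field L] [Algebra D L], algebraMap D L d ≠ 0 →
      ¬ _root_.IsReduced (L ⊗[D] B) := by
  classical
  let K := FractionRing D
  obtain ⟨b, n, hbn, hb0⟩ : ∃ (b : B) (n : ℕ), (1 : K) ⊗ₜ[D] (b ^ n) = 0 ∧ (1 : K) ⊗ₜ[D] b ≠ 0 := by
    rw [isReduced_iff] at h
    push Not at h
    obtain ⟨z, ⟨n, hn⟩, hz⟩ := h
    letI : Algebra B (K ⊗[D] B) := Algebra.TensorProduct.rightAlgebra
    haveI : IsLocalization (Algebra.algebraMapSubmonoid B (nonZeroDivisors D)) (K ⊗[D] B) :=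
      IsLocalization.tensorRight (S := B) (A := K) (nonZeroDivisors D)
    obtain ⟨b, s, rfl⟩ := IsLocalization.exists_mk'_eq (Algebra.algebraMapSubmonoid B (nonZeroDivisors D)) z
    have hu := IsLocalization.map_units (K ⊗[D] B) s
    refine ⟨b, n, ?_, fun h0 => hz ?_⟩
    · show algebraMap B (K ⊗[D] B) (b ^ n) = 0
      rw [map_pow, ← IsLocalization.mk'_spec (K ⊗[D] B) b s, mul_pow, hn, zero_mul]
    · rw [IsLocalization.mk'_eq_zero_iff]
      exact (IsLocalization.map_eq_zero_iff (Algebra.algebraMapSubmonoid B (nonZeroDivisors D)) (K ⊗[D] B) b).1 h0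
  obtain ⟨a, ha, hab⟩ : ∃ a : D, a ≠ 0 ∧ a • b ^ n = 0 := by
    letI : Algebra B (K ⊗[D] B) := Algebra.TensorProduct.rightAlgebra
    haveI : IsLocalization (Algebra.algebraMapSubmonoid B (nonZeroDivisors D)) (K ⊗[D] B) :=
      IsLocalization.tensorRight (S := B) (A := K) (nonZeroDivisors D)
    obtain ⟨⟨_, a, ha, rfl⟩, hab⟩ := (IsLocalization.map_eq_zero_iff
      (Algebra.algebraMapSubmonoid B (nonZeroDivisors D)) (K ⊗[D] B) (b ^ n)).1 hbn
    exact ⟨a, nonZeroDivisors.ne_zero ha, by rw [Algebra.smul_def]; exact hab⟩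
  obtain ⟨f, hf, hfree⟩ := FlatH4.exists_free_and_finitePresentation (R := D) (S := B)
  let R' := Localization.Away (f * a)
  have hfu : IsUnit (algebraMap D R' f) ∧ IsUnit (algebraMap D R' a) := by
    have := IsLocalization.Away.algebraMap_isUnit (S := R') (f * a)
    rwa [map_mul, IsUnit.mul_iff] at this
  haveI : Module.Free R' (R' ⊗[D] B) := (hfree R' hfu.1).1
  let β := Module.Free.chooseBasis R' (R' ⊗[D] B)
  let m : R' ⊗[D] B := (1 : R') ⊗ₜ[D] b
  let ρ : R' →ₐ[D] K := { IsLocalization.Away.lift (f * a) (g := algebraMap D K)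
      (isUnit_iff_ne_zero.2 fun h0 => mul_ne_zero hf ha (IsFractionRing.injective D K (h0.trans (map_zero _).symm))) with
    commutes' := fun x => IsLocalization.Away.lift_eq _ _ x }
  have hm : m ≠ 0 := fun h0 => hb0 (by
    have := congrArg (Algebra.TensorProduct.map ρ (AlgHom.id D B)) h0
    simpa [m] using this)
  obtain ⟨k, hk⟩ : ∃ k, β.repr m k ≠ 0 := by
    by_contra hk
    push Not at hk
    exact hm (β.repr.injective (Finsupp.ext fun k => by rw [hk k, map_zero, Finsupp.zero_apply]))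
  obtain ⟨c₀, ⟨_, j, rfl⟩, hc⟩ := IsLocalization.exists_mk'_eq (Submonoid.powers (f * a)) (β.repr m k)
  have hc₀ : c₀ ≠ 0 := fun h0 => hk (by rw [← hc, h0, IsLocalization.mk'_zero])
  refine ⟨f * a * c₀, mul_ne_zero (mul_ne_zero hf ha) hc₀, fun L _ _ hd hred => ?_⟩
  rw [map_mul, mul_ne_zero_iff] at hd
  let σ : R' →+* L := IsLocalization.Away.lift (f * a) (g := algebraMap D L) (isUnit_iff_ne_zero.2 hd.1)
  letI : Algebra R' L := σ.toAlgebra
  haveI : IsScalarTower D R' L := IsScalarTower.of_algebraMap_eq fun x => (IsLocalization.Away.lift_eq _ _ x).symm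
  let e : L ⊗[R'] (R' ⊗[D] B) ≃ₐ[L] L ⊗[D] B := Algebra.TensorProduct.cancelBaseChange D R' L L B
  have hpow : ((1 : L) ⊗ₜ[D] b) ^ n = 0 := by
    rw [Algebra.TensorProduct.tmul_pow, one_pow]
    have h1 : (1 : L) ⊗ₜ[D] (b ^ n) = ((algebraMap D L a)⁻¹ • algebraMap D L a) ⊗ₜ[D] (b ^ n) := by
      rw [smul_eq_mul, inv_mul_cancel₀]
      exact fun h0 => hd.1 (by rw [map_mul, h0, mul_zero])
    rw [h1, smul_eq_mul, mul_comm, ← Algebra.smul_def, TensorProduct.smul_tmul, hab, TensorProduct.tmul_zero]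
  have hzero : (1 : L) ⊗ₜ[D] b = 0 := hred.eq_zero _ ⟨n, hpow⟩
  have hem : e ((1 : L) ⊗ₜ[R'] m) = (1 : L) ⊗ₜ[D] b := by simp [e, m]
  have hlm : (1 : L) ⊗ₜ[R'] m = 0 := e.injective (by rw [hem, hzero, map_zero])
  have hcoord := congrArg (fun x => (β.baseChange L).repr x k) hlm
  simp only [Module.Basis.baseChange_repr_tmul, map_zero, Finsupp.zero_apply, Algebra.smul_def, mul_one] at hcoord
  apply hd.2
  have h2 := congrArg σ (IsLocalization.mk'_spec' R' c₀ (⟨(f * a) ^ j, j, rfl⟩ : Submonoid.powers (f * a)))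
  rw [map_mul, hc, show σ (β.repr m k) = 0 from hcoord, mul_zero] at h2
  rw [show algebraMap D L c₀ = σ (algebraMap D R' c₀) from (IsLocalization.Away.lift_eq _ _ c₀).symm]
  exact h2.symm

theorem isIso_residueFieldMap {X Y : Scheme.{u}} (i : X ⟶ Y) [IsPreimmersion i] (x : X) : IsIso (i.residueFieldMap x) := by
  refine (ConcreteCategory.isIso_iff_bijective _).mpr ⟨(i.residueFieldMap x).hom.injective, fun z => ?_⟩
  obtain ⟨t, rfl⟩ := IsLocalRing.residue_surjective (R := X.presheaf.stalk x) z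
  obtain ⟨t', rfl⟩ := i.stalkMap_surjective x t
  exact ⟨Y.residue (i x) t', ConcreteCategory.congr_hom (Scheme.residue_residueFieldMap i x) t'⟩

/-- A non-reduced generic fibre spreads out to the nearby fibres. -/
theorem exists_nhd_nonreduced {X Y : Scheme.{u}} [IrreducibleSpace ↥Y] (f : X ⟶ Y) [LocallyOfFiniteType f] [QuasiCompact f]
    (h : ¬ IsReduced (f.fiber (genericPoint ↥Y))) :
    ∃ V : Y.Opens, (V : Set Y).Nonempty ∧ ∀ y ∈ V, ¬ IsReduced (f.fiber y) := by
  obtain ⟨D, _, i, hi, hio, hη, -⟩ := FibDim4.exists_generic_fp f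
  let g := pullback.snd f i
  -- comparison of fibres with field points
  let t : ∀ r : Spec D, Spec (CommRingCat.of (r : PrimeSpectrum D).asIdeal.ResidueField) ⟶ Spec D := fun r =>
    tpt D (r : PrimeSpectrum D).asIdeal.ResidueField
  have hfib : ∀ r : Spec D, IsReduced (f.fiber (i r)) ↔ IsReduced (pullback g (t r)) := by
    intro r
    haveI := isIso_residueFieldMap i r
    let θ : Spec (CommRingCat.of (r : PrimeSpectrum D).asIdeal.ResidueField) ⟶ Spec (Y.residueField (i r)) :=
      Spec.map (i.residueFieldMap r ≫ (Scheme.Spec.residueFieldIso D r).hom)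
    have hθ : θ ≫ Y.fromSpecResidueField (i r) = t r ≫ i := by
      rw [show t r = Spec.map (Scheme.Spec.residueFieldIso D r).hom ≫ (Spec D).fromSpecResidueField r by
        rw [← Scheme.Spec.map_residueFieldIso_inv_eq_fromSpecResidueField, ← Category.assoc, ← Spec.map_comp,
          Iso.inv_hom_id, Spec.map_id, Category.id_comp]]
      simp only [θ, Spec.map_comp, Category.assoc, Scheme.Hom.SpecMap_residueFieldMap_fromSpecResidueField]
    let e : pullback g (t r) ≅ pullback (f.fiberToSpecResidueField (i r)) θ :=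
      pullbackLeftPullbackSndIso f i (t r) ≪≫ pullback.congrHom rfl hθ.symm ≪≫
        (pullbackLeftPullbackSndIso f (Y.fromSpecResidueField (i r)) θ).symm
    let p : pullback (f.fiberToSpecResidueField (i r)) θ ⟶ f.fiber (i r) := pullback.fst _ _
    constructor
    · intro hr
      exact isReduced_of_isOpenImmersion (e.hom ≫ p)
    · intro hr
      exact isReduced_of_isOpenImmersion (inv (e.hom ≫ p))
  have hgen : ¬ IsReduced (pullback g (t (bot D))) := fun hr => h (by
    rw [← apply_bot i hη]; exact (hfib _).2 hr)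
  -- an affine piece
  haveI : CompactSpace ↥(pullback f i) := QuasiCompact.compactSpace_of_compactSpace g
  let 𝒰 := (pullback f i).affineCover
  obtain ⟨k, hk⟩ : ∃ k, ¬ IsReduced (pullback (𝒰.f k ≫ g) (t (bot D))) := by
    by_contra hall
    push Not at hall
    refine hgen ?_
    haveI : ∀ z : ↥(pullback g (t (bot D))), _root_.IsReduced ((pullback g (t (bot D))).presheaf.stalk z) := fun z => by
      obtain ⟨k, w, hw⟩ := 𝒰.exists_eq (pullback.fst g (t (bot D)) z)
      let j := (pullbackRightPullbackFstIso g (t (bot D)) (𝒰.f k)).inv ≫ pullback.snd (𝒰.f k) (pullback.fst g (t (bot D)))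
      obtain ⟨u, rfl⟩ : z ∈ Set.range j := by
        rw [Scheme.Hom.comp_base, TopCat.coe_comp, Set.range_comp,
          (pullbackRightPullbackFstIso g (t (bot D)) (𝒰.f k)).inv.surjective.range_eq, Set.image_univ,
          IsOpenImmersion.range_pullbackSnd]
        exact ⟨w, hw⟩
      haveI := hall k
      exact isReduced_of_injective _ (ConcreteCategory.bijective_of_isIso (j.stalkMap u)).1
    exact isReduced_of_isReduced_stalk _
  haveI : IsAffine (𝒰.X k) := inferInstanceAs (IsAffine ((pullback f i).affineCover.X k))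
  obtain ⟨φ, hφ⟩ := Spec.map_surjective ((𝒰.X k).isoSpec.inv ≫ 𝒰.f k ≫ g)
  let B := Γ(𝒰.X k, ⊤)
  letI : Algebra D B := φ.hom.toAlgebra
  haveI : Algebra.FiniteType D B := by
    haveI hl : LocallyOfFiniteType (Spec.map φ) := by rw [hφ]; infer_instance
    exact (HasRingHomProperty.Spec_iff (P := @LocallyOfFiniteType) (φ := φ)).1 hl
  -- the piece over a field point
  have hpiece : ∀ (L : Type u) [Field L] [Algebra D L],
      IsReduced (pullback (𝒰.f k ≫ g) (tpt D L)) ↔ _root_.IsReduced (L ⊗[D] B) := by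
    intro L _ _
    let e : pullback (𝒰.f k ≫ g) (tpt D L) ≅ Spec (CommRingCat.of (B ⊗[D] L)) :=
      asIso (pullback.map (𝒰.f k ≫ g) (tpt D L) (Spec.map φ) (tpt D L) (𝒰.X k).isoSpec.hom (𝟙 _) (𝟙 _)
        (by rw [hφ]; simp) (by simp)) ≪≫ pullbackSpecIso D B L
    constructor
    · intro hr
      haveI := hr
      haveI := isReduced_of_isOpenImmersion e.inv
      haveI : _root_.IsReduced (B ⊗[D] L) := (affine_isReduced_iff (.of (B ⊗[D] L))).1 inferInstance
      exact isReduced_of_injective (Algebra.TensorProduct.comm D L B) (Algebra.TensorProduct.comm D L B).injective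
    · intro hr
      haveI : _root_.IsReduced (B ⊗[D] L) :=
        isReduced_of_injective (Algebra.TensorProduct.comm D B L) (Algebra.TensorProduct.comm D B L).injective
      haveI := (affine_isReduced_iff (.of (B ⊗[D] L))).2 inferInstance
      exact isReduced_of_isOpenImmersion e.hom
  obtain ⟨d, hd, hds⟩ := exists_nilpotent_spread (D := D) (B := B) (fun hr => by
    haveI := hr
    haveI : (bot D : PrimeSpectrum D).asIdeal.IsPrime := (bot D : PrimeSpectrum D).isPrime
    let K0 := (bot D : PrimeSpectrum D).asIdeal.ResidueField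
    refine hk ((hpiece K0).2 ?_)
    have hinj : Function.Injective (algebraMap D K0) := fun x y hxy => sub_eq_zero.1 (by
      have := Ideal.algebraMap_residueField_eq_zero.1 (show algebraMap D K0 (x - y) = 0 by rw [map_sub, hxy, sub_self])
      exact Ideal.mem_bot.1 this)
    let K := FractionRing D
    let ρ1 : K →ₐ[D] K0 := IsFractionRing.liftAlgHom (g := Algebra.ofId D K0) hinj
    let ρ2 : K0 →ₐ[D] K := Ideal.ResidueField.liftₐ (bot D : PrimeSpectrum D).asIdeal (Algebra.ofId D K)
      (fun x hx => by rw [show x = 0 from Ideal.mem_bot.1 hx]; exact zero_mem _)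
      (fun x hx => isUnit_iff_ne_zero.2 fun h0 => hx (Ideal.mem_bot.2 (IsFractionRing.injective D K (h0.trans (map_zero _).symm))))
    let ε : K ≃ₐ[D] K0 := AlgEquiv.ofAlgHom ρ1 ρ2 (Ideal.ResidueField.algHom_ext (by ext))
      (IsLocalization.algHom_ext (nonZeroDivisors D) (by ext))
    exact isReduced_of_injective (Algebra.TensorProduct.congr ε.symm AlgEquiv.refl)
      (Algebra.TensorProduct.congr ε.symm (AlgEquiv.refl : B ≃ₐ[D] B)).injective)
  refine ⟨⟨i '' (PrimeSpectrum.basicOpen d : Set (PrimeSpectrum D)),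
    (show Topology.IsOpenEmbedding i from ⟨i.isEmbedding, hio⟩).isOpenMap _ (PrimeSpectrum.basicOpen d).2⟩,
    ⟨_, bot D, fun h0 => hd (Ideal.mem_bot.1 h0), rfl⟩, ?_⟩
  rintro _ ⟨r, hr, rfl⟩ hred
  haveI := (hfib r).1 hred
  refine hds (r : PrimeSpectrum D).asIdeal.ResidueField (fun h0 => hr (Ideal.algebraMap_residueField_eq_zero.1 h0)) ((hpiece _).1 ?_)
  exact isReduced_of_isOpenImmersion ((pullbackRightPullbackFstIso g (t r) (𝒰.f k)).inv ≫ pullback.snd (𝒰.f k) (pullback.fst g (t r)))

end Groth.Agent.Stein6
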